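import Cfsg.Agent.Lib.SmallOrder
import Cfsg.Agent.Lib.SmallOrders.Order58520

/-!
# Small groups met in the centraliser of an involution, and orbit counting
-/

namespace CfsgLib.SmallOrders.J175560

open CfsgLib
open scoped Pointwise

set_option autoImplicit false
set_option linter.unusedVariables false
set_option linter.style.haveILetI false
set_option linter.unusedSectionVars false

universe u

theorem dvd_card_of_stabilizer {H X : Type*} [Group H] [Finite H] [MulAction H X] [Finite X] (k : ℕ)
    (h : ∀ x : X, k ∣ (MulAction.stabilizer H x).index) : k ∣ Nat.card X := by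
  classical
  haveI := Fintype.ofFinite X
  haveI := Fintype.ofFinite (MulAction.orbitRel.Quotient H X)
  rw [Nat.card_congr (MulAction.selfEquivSigmaOrbits H X), Nat.card_sigma]
  refine Finset.dvd_sum fun ω _ => ?_
  rw [Nat.card_congr (MulAction.orbitEquivQuotientStabilizer H ω.out), ← Subgroup.index_eq_card]
  exact h _

variable {X : Type u} [Group X] [Finite X]

/-- A normal subgroup of index prime to `p` contains all Sylow `p`-subgroups. -/
theorem sylow_le_normal {p : ℕ} [Fact p.Prime] (N : Subgroup X) [N.Normal] (h : ¬ p ∣ N.index)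
    (P : Sylow p X) : (P : Subgroup X) ≤ N := by
  intro x hx
  rw [← QuotientGroup.eq_one_iff]
  obtain ⟨k, hk⟩ := IsPGroup.iff_orderOf.1 P.2 ⟨x, hx⟩
  rw [Subgroup.orderOf_mk] at hk
  refine orderOf_eq_one_iff.1 (Nat.eq_one_of_dvd_coprimes
    (((Fact.out : p.Prime).coprime_iff_not_dvd.2 h).pow_left k)
    (hk ▸ orderOf_map_dvd (QuotientGroup.mk' N) x) ?_)
  rw [Subgroup.index_eq_card]
  exact orderOf_dvd_natCard _

theorem card_sylow_le_normal {p : ℕ} [Fact p.Prime] (N : Subgroup X) [N.Normal] (h : ¬ p ∣ N.index) :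
    Nat.card (Sylow p X) ≤ Nat.card (Sylow p N) :=
  Nat.card_le_card_of_injective (fun P => P.subtype (sylow_le_normal N h P)) fun P Q e =>
    Sylow.subtype_injective e

theorem card_sylow_facts {p n : ℕ} [hp : Fact p.Prime] (h : Nat.card X = p * n) (hn : ¬ p ∣ n) :
    Nat.card (Sylow p X) ∣ n ∧ Nat.card (Sylow p X) % p = 1 := by
  obtain ⟨R⟩ : Nonempty (Sylow p X) := inferInstance
  have hR : Nat.card R = p := by
    have := SmallOrder.card_sylow_eq (k := 1) R (by rw [h, pow_one]; exact dvd_mul_right p n)
      (by rw [h, pow_succ, pow_one, Nat.mul_dvd_mul_iff_left hp.out.pos]; exact hn)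
    simpa using this
  have := SmallOrder.card_sylow_mem_filter R hR h hp.out.ne_zero
  rw [Finset.mem_filter, Nat.mem_divisors] at this
  exact ⟨this.1.1, this.2⟩

/-- A group of order `30` has an index two subgroup. -/
theorem exists_index_two_thirty (h : Nat.card X = 30) : ∃ N : Subgroup X, N.Normal ∧ N.index = 2 := by
  haveI : Fact (Nat.Prime 2) := ⟨Nat.prime_two⟩
  obtain ⟨P⟩ : Nonempty (Sylow 2 X) := inferInstance
  have hP : Nat.card (P : Subgroup X) = 2 := by
    have := SmallOrder.card_sylow_eq (k := 1) P (by rw [h]; norm_num) (by rw [h]; norm_num)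
    simpa using this
  haveI : IsCyclic (P : Subgroup X) := isCyclic_of_prime_card hP
  have hle : Subgroup.normalizer (P : Set X) ≤ Subgroup.centralizer (P : Set X) :=
    SmallOrder.normalizer_le_centralizer_of_coprime (P : Subgroup X) hP (Nat.coprime_one_right _)
  refine ⟨_, MonoidHom.normal_ker (MonoidHom.transferSylow P hle), ?_⟩
  have hc := (MonoidHom.ker_transferSylow_isComplement' P hle).symm.index_eq_card
  exact hc.trans hP

theorem five_unique (h : Nat.card X ∈ [5, 10, 15, 20, 30]) [Fact (Nat.Prime 5)] :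
    Nat.card (Sylow 5 X) = 1 := by
  have key : ∀ n, n ∈ [1, 2, 3, 4] → ∀ (Y : Type u) [Group Y] [Finite Y], Nat.card Y = 5 * n →
      Nat.card (Sylow 5 Y) = 1 := by
    intro n hn Y _ _ hY
    simp only [List.mem_cons, List.not_mem_nil, or_false] at hn
    obtain ⟨hd, hm⟩ := card_sylow_facts hY (by omega)
    have := Nat.le_of_dvd (by omega) hd
    omega
  simp only [List.mem_cons, List.not_mem_nil, or_false] at h
  rcases h with h | h | h | h | h
  · exact key 1 (by simp) X h
  · exact key 2 (by simp) X h
  · exact key 3 (by simp) X h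
  · exact key 4 (by simp) X h
  · obtain ⟨N, hN, hi⟩ := exists_index_two_thirty h
    have h15 : Nat.card N = 5 * 3 := by
      have := N.card_mul_index
      rw [hi, h] at this
      omega
    have h1 := card_sylow_le_normal (p := 5) N (by rw [hi]; norm_num)
    rw [key 3 (by simp) N h15] at h1
    have := Nat.card_pos (α := Sylow 5 X)
    omega

theorem divisors_sixty : ∀ d < 61, d ∣ 60 → 1 < d →
    d ∈ ([2, 3, 4, 5, 6, 10, 12, 15, 20, 30, 60] : List ℕ) := by decide +kernel

/-- A group of order `60` with more than one Sylow `5`-subgroup is simple. -/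
theorem simple_sixty (h : Nat.card X = 60) [Fact (Nat.Prime 5)] (h5 : Nat.card (Sylow 5 X) ≠ 1) :
    IsSimpleGroup X := by
  classical
  haveI : Fact (Nat.Prime 3) := ⟨Nat.prime_three⟩
  have h6 : Nat.card (Sylow 5 X) = 6 := by
    obtain ⟨hd, hm⟩ := card_sylow_facts (p := 5) (n := 12) h (by norm_num)
    have := Nat.le_of_dvd (by norm_num) hd
    have hcases : Nat.card (Sylow 5 X) = 6 ∨ Nat.card (Sylow 5 X) = 11 := by omega
    rcases hcases with e | e
    · exact e
    · rw [e] at hd; norm_num at hd
  haveI : Nontrivial X := Finite.one_lt_card_iff_nontrivial.1 (by rw [h]; norm_num)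
  refine ⟨fun N hN => ?_⟩
  by_contra hcon
  push Not at hcon
  obtain ⟨hb, ht⟩ := hcon
  haveI := hN
  have hmul := N.card_mul_index
  rw [h] at hmul
  have h1N := N.one_lt_card_iff_ne_bot.2 hb
  have hi1 : N.index ≠ 1 := fun e => ht (Subgroup.index_eq_one.1 e)
  have hd : Nat.card N ∈ [2, 3, 4, 5, 6, 10, 12, 15, 20, 30] := by
    have hdd : Nat.card N ∣ 60 := ⟨_, hmul.symm⟩
    have hne : Nat.card N ≠ 60 := fun e => hi1 (by rw [e] at hmul; omega)
    have := divisors_sixty _ (Nat.lt_succ_of_le (Nat.le_of_dvd (by norm_num) hdd)) hdd h1N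
    simp only [List.mem_cons, List.not_mem_nil, or_false] at this ⊢
    omega
  by_cases h5N : 5 ∣ Nat.card N
  · -- all Sylow subgroups lie in N
    have h5i : ¬ 5 ∣ N.index := fun hi => by
      have := mul_dvd_mul h5N hi
      rw [hmul] at this; norm_num at this
    have hle := card_sylow_le_normal (p := 5) N h5i
    rw [five_unique (X := N) (by
      simp only [List.mem_cons, List.not_mem_nil, or_false] at hd ⊢; omega), h6] at hle
    omega
  by_cases h12 : Nat.card N = 12
  · have h3i : ¬ 3 ∣ N.index := by rw [h12] at hmul; omega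
    have hle := card_sylow_le_normal (p := 3) N h3i
    obtain ⟨hd3, hm3⟩ := card_sylow_facts (X := N) (p := 3) (n := 4) h12 (by norm_num)
    have h4 := Nat.le_of_dvd (by norm_num) hd3
    obtain ⟨hD, hM⟩ := card_sylow_facts (X := X) (p := 3) (n := 20) h (by norm_num)
    obtain ⟨R⟩ : Nonempty (Sylow 3 X) := inferInstance
    have hR : Nat.card (R : Subgroup X) = 3 := by
      have := SmallOrder.card_sylow_eq (k := 1) R (by rw [h]; norm_num) (by rw [h]; norm_num)
      simpa using this
    have hn := SmallOrder.card_normalizer_mul_card_sylow R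
    rw [h] at hn
    have h5R : 5 ∣ Nat.card (Subgroup.normalizer (R : Set X)) := by
      have : Nat.card (Sylow 3 X) = 1 ∨ Nat.card (Sylow 3 X) = 4 := by omega
      rcases this with e | e <;> rw [e] at hn <;> omega
    obtain ⟨y, hy⟩ := exists_prime_orderOf_dvd_card' 5 h5R
    rw [← Subgroup.orderOf_coe] at hy
    have hcomm : ∀ r ∈ (R : Subgroup X), (y : X) * r = r * y := fun r hr =>
      Order58520.commute_of_small hy (R : Subgroup X) (fun z hz => (Subgroup.mem_normalizer_iff.1 y.2 z).1 hz)
        (by rw [hR]; norm_num) hr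
    obtain ⟨P⟩ : Nonempty (Sylow 5 X) := inferInstance
    have hy5 : Nat.card (Subgroup.zpowers (y : X)) = 5 ^ (Nat.card X).factorization 5 := by
      rw [Nat.card_zpowers, hy, ← P.card_eq_multiplicity,
        SmallOrder.card_sylow_eq (k := 1) P (by rw [h]; norm_num) (by rw [h]; norm_num), pow_one]
    set Q : Sylow 5 X := Sylow.ofCard (Subgroup.zpowers (y : X)) hy5
    have hn5 := SmallOrder.card_normalizer_mul_card_sylow Q
    rw [h, h6] at hn5
    have hle' : (R : Subgroup X) ≤ Subgroup.normalizer (Q : Set X) := fun r hr =>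
      Subgroup.centralizer_le_normalizer _ (Subgroup.mem_centralizer_iff.2 (by
        rintro _ ⟨i, rfl⟩
        exact ((show Commute (y : X) r from hcomm r hr).zpow_left i).eq))
    have := Subgroup.card_dvd_of_le hle'
    rw [hR, show Nat.card (Subgroup.normalizer (Q : Set X)) = 10 by omega] at this
    norm_num at this
  -- the quotient has a normal Sylow subgroup
  have hq : Nat.card (X ⧸ N) ∈ [5, 10, 15, 20, 30] := by
    rw [← Subgroup.index_eq_card]
    simp only [List.mem_cons, List.not_mem_nil, or_false] at hd ⊢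
    rcases hd with e | e | e | e | e | e | e | e | e | e <;> rw [e] at hmul h5N h12 <;> omega
  have hq1 := five_unique hq
  obtain ⟨T⟩ : Nonempty (Sylow 5 (X ⧸ N)) := inferInstance
  haveI : Subsingleton (Sylow 5 (X ⧸ N)) := (Nat.card_eq_one_iff_unique.1 hq1).1
  haveI : (T : Subgroup (X ⧸ N)).Normal := Sylow.normal_of_subsingleton T
  set M := (T : Subgroup (X ⧸ N)).comap (QuotientGroup.mk' N) with hM
  have hMi : M.index = (T : Subgroup (X ⧸ N)).index :=
    Subgroup.index_comap_of_surjective _ (QuotientGroup.mk'_surjective N)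
  haveI : M.Normal := Subgroup.Normal.comap inferInstance _
  have h5i : ¬ 5 ∣ M.index := hMi ▸ T.not_dvd_index
  have hle := card_sylow_le_normal (p := 5) M h5i
  have hT : Nat.card (T : Subgroup (X ⧸ N)) = 5 := by
    have h5q : 5 ∣ Nat.card (X ⧸ N) := by
      simp only [List.mem_cons, List.not_mem_nil, or_false] at hq; omega
    have := SmallOrder.card_sylow_eq (k := 1) T (by rwa [pow_one]) (fun h' => by
      simp only [List.mem_cons, List.not_mem_nil, or_false] at hq
      rcases hq with e | e | e | e | e <;> rw [e] at h' <;> norm_num at h')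
    simpa using this
  have hMc : Nat.card M * (T : Subgroup (X ⧸ N)).index = 60 := by rw [← hMi, ← h]; exact M.card_mul_index
  have hTi := (T : Subgroup (X ⧸ N)).card_mul_index
  rw [hT, ← Subgroup.index_eq_card] at hTi
  have hMn : Nat.card M = 5 * Nat.card N := by
    refine Nat.eq_of_mul_eq_mul_right (Nat.pos_of_ne_zero (T : Subgroup (X ⧸ N)).index_ne_zero_of_finite) ?_
    rw [hMc, ← hmul, ← hTi]; ring
  rw [five_unique (X := M) (by
    simp only [List.mem_cons, List.not_mem_nil, or_false] at hd ⊢; omega), h6] at hle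
  omega

end CfsgLib.SmallOrders.J175560
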