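import Cfsg.Agent.Lib.SmallOrders.J175560.SylowTwo
import Cfsg.Agent.Lib.SmallOrders.J175560.Groups
import Cfsg.Agent.S0494
import Cfsg.Agent.Lib.Blocks.Dihedral.Setup

/-!
# The centraliser of an involution in a simple group of order `175560`
-/

namespace CfsgLib.SmallOrders.J175560

open Cfsg CfsgLib CfsgLib.SmallOrders CfsgLib.SmallOrders.Order58520
open scoped Pointwise

set_option autoImplicit false
set_option linter.unusedVariables false
set_option linter.style.haveILetI false
set_option linter.unusedSectionVars false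

universe u

variable {G : Type u} [Group G] [Finite G] [IsSimpleGroup G]

theorem sylow_comm (hN : Nat.card G = 175560) (S : Sylow 2 G) {a b : G} (ha : a ∈ (S : Subgroup G))
    (hb : b ∈ (S : Subgroup G)) : a * b = b * a := by
  have h := fun {x} hx => inv_eq_of_mul_eq_one_right (elementary hN S x hx)
  calc a * b = (a * b)⁻¹ := (h (mul_mem ha hb)).symm
    _ = b * a := by rw [mul_inv_rev, h ha, h hb]

theorem orderOf_of_mem (hN : Nat.card G = 175560) (S : Sylow 2 G) {a : G} (ha : a ∈ (S : Subgroup G))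
    (h1 : a ≠ 1) : orderOf a = 2 := by
  haveI : Fact (Nat.Prime 2) := ⟨Nat.prime_two⟩
  exact orderOf_eq_prime (by rw [sq]; exact elementary hN S a ha) h1

/-- An element of exponent two centralising a Sylow subgroup lies in it. -/
theorem mem_of_centralizes (hN : Nat.card G = 175560) (S : Sylow 2 G) {u : G} (hu : u * u = 1)
    (hc : ∀ s ∈ (S : Subgroup G), s * u = u * s) : u ∈ (S : Subgroup G) := by
  haveI : Fact (Nat.Prime 2) := ⟨Nat.prime_two⟩
  have hd : orderOf u ∣ 2 := orderOf_dvd_of_pow_eq_one (by rw [sq, hu])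
  have hp : IsPGroup 2 (Subgroup.zpowers u) := by
    rcases (Nat.dvd_prime Nat.prime_two).1 hd with e | e
    · exact IsPGroup.of_card (n := 0) (by rw [Nat.card_zpowers, e, pow_zero])
    · exact IsPGroup.of_card (n := 1) (by rw [Nat.card_zpowers, e, pow_one])
  have hsup := S.2.to_sup_of_normal_right' hp fun c hcS =>
    Subgroup.centralizer_le_normalizer _ (Subgroup.mem_centralizer_iff.2 (by
      rintro _ ⟨i, rfl⟩
      exact ((show Commute c u from hc c hcS).zpow_right i).eq.symm))
  exact (S.3 hsup le_sup_left).le (Subgroup.mem_sup_right (Subgroup.mem_zpowers u))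

/-- The normaliser of a Sylow subgroup is transitive on its involutions, and `7` divides its order. -/
theorem transitive (hN : Nat.card G = 175560) (S : Sylow 2 G) :
    (∀ a ∈ (S : Subgroup G), ∀ b ∈ (S : Subgroup G), a ≠ 1 → b ≠ 1 →
      ∃ n ∈ Subgroup.normalizer ((S : Subgroup G) : Set G), n * a * n⁻¹ = b) ∧
    7 ∣ Nat.card (Subgroup.normalizer ((S : Subgroup G) : Set G)) := by
  classical
  haveI := Fintype.ofFinite G
  haveI : Fact (Nat.Prime 2) := ⟨Nat.prime_two⟩
  haveI : IsMulCommutative (S : Subgroup G) :=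
    ⟨⟨fun a b => Subtype.ext (sylow_comm hN S a.2 b.2)⟩⟩
  set N := Subgroup.normalizer ((S : Subgroup G) : Set G) with hNdef
  set A : Finset G := Finset.univ.filter fun x => x ∈ (S : Subgroup G) ∧ x ≠ 1 with hA
  have hA7 : A.card = 7 := by
    have h8 : (Finset.univ.filter fun x => x ∈ (S : Subgroup G)).card = 8 := by
      rw [← Fintype.card_subtype, ← Nat.card_eq_fintype_card]
      exact card_sylow_two hN S
    have : A = (Finset.univ.filter fun x => x ∈ (S : Subgroup G)).erase 1 := by
      ext x; simp [hA, and_comm]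
    rw [this, Finset.card_erase_of_mem (by simp), h8]
  set O : G → Finset G := fun a => Finset.univ.filter fun x => ∃ n ∈ N, n * a * n⁻¹ = x with hO
  have hmem : ∀ {a x}, x ∈ O a ↔ ∃ n ∈ N, n * a * n⁻¹ = x := by simp [hO]
  have hsub : ∀ a ∈ A, O a ⊆ A := by
    intro a ha x hx
    obtain ⟨n, hn, rfl⟩ := hmem.1 hx
    simp only [hA, Finset.mem_filter, Finset.mem_univ, true_and] at ha ⊢
    exact ⟨(Subgroup.mem_normalizer_iff.1 hn a).1 ha.1, fun e => ha.2 (conj_eq_one_iff.1 e)⟩
  have hself : ∀ a, a ∈ O a := fun a => hmem.2 ⟨1, one_mem _, by simp⟩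
  have hdisj : ∀ a b, b ∉ O a → Disjoint (O a) (O b) := by
    intro a b hb
    rw [Finset.disjoint_left]
    intro x hxa hxb
    obtain ⟨n, hn, rfl⟩ := hmem.1 hxa
    obtain ⟨n', hn', e⟩ := hmem.1 hxb
    exact hb (hmem.2 ⟨n'⁻¹ * n, mul_mem (inv_mem hn') hn, by
      rw [show n'⁻¹ * n * a * (n'⁻¹ * n)⁻¹ = n'⁻¹ * (n * a * n⁻¹) * n' by group, ← e]; group⟩)
  have hcard : ∀ a ∈ A, Odd (O a).card ∧ 3 ≤ (O a).card ∧ (O a).card ∣ Nat.card N := by
    intro a ha
    have ha' : a ∈ (S : Subgroup G) ∧ a ≠ 1 := by simpa [hA] using ha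
    letI act : MulAction N G := MulAction.compHom G ((MulAut.conj : G →* MulAut G).comp N.subtype)
    have hsm : ∀ (n : N) (x : G), n • x = (n : G) * x * (n : G)⁻¹ := fun n x => rfl
    have horb : (O a).card = (MulAction.stabilizer N a).index := by
      rw [MulAction.index_stabilizer, ← Set.ncard_coe_finset]
      congr 1
      ext x
      simp only [Finset.mem_coe, hmem, MulAction.mem_orbit_iff, Subtype.exists, hsm, exists_prop]
    have hS : (S : Subgroup G).subgroupOf N ≤ MulAction.stabilizer N a := fun n hn => by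
      rw [MulAction.mem_stabilizer_iff, hsm,
        sylow_comm hN S (show (n : G) ∈ (S : Subgroup G) from hn) ha'.1, mul_inv_cancel_right]
    have hdd : (O a).card ∣ ((S : Subgroup G).subgroupOf N).index := horb ▸ Subgroup.index_dvd_of_le hS
    have hodd : ¬ 2 ∣ (O a).card := fun h => S.not_dvd_index
      ((h.trans hdd).trans (Subgroup.relIndex_dvd_index_of_le Subgroup.le_normalizer))
    refine ⟨Nat.odd_iff.2 (Nat.two_dvd_ne_zero.1 hodd), ?_, horb ▸ Subgroup.index_dvd_card _⟩
    by_contra h3
    have h1 : (O a).card = 1 := by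
      have := Finset.card_pos.2 ⟨a, hself a⟩
      omega
    obtain ⟨H, hH⟩ := AbelianInvolutions.exists_index_two_of_fixed S ha'.1 ha'.2 fun n hn => by
      have := Finset.card_le_one.1 h1.le _ (hmem.2 ⟨n, hn, rfl⟩) _ (hself a)
      calc n * a = n * a * n⁻¹ * n := by group
        _ = a * n := by rw [this]
    exact index_ne_two (by rw [hN]; norm_num) H hH
  have hall : ∀ a ∈ A, O a = A := by
    intro a ha
    by_contra hne
    obtain ⟨b, hbA, hb⟩ := Finset.not_subset.1 fun h => hne (Finset.Subset.antisymm (hsub a ha) h)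
    obtain ⟨hoa, h3a, -⟩ := hcard a ha
    obtain ⟨hob, h3b, -⟩ := hcard b hbA
    have hd := hdisj a b hb
    have hu := Finset.card_union_of_disjoint hd
    have hev : (O a ∪ O b).card ≠ 7 := by
      obtain ⟨i, hi⟩ := hoa; obtain ⟨j, hj⟩ := hob
      omega
    obtain ⟨c, hcA, hc⟩ := Finset.not_subset.1 fun h : A ⊆ O a ∪ O b => hev (by
      rw [← hA7, Finset.Subset.antisymm (Finset.union_subset (hsub a ha) (hsub b hbA)) h])
    obtain ⟨-, h3c, -⟩ := hcard c hcA
    rw [Finset.mem_union, not_or] at hc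
    have hd' : Disjoint (O a ∪ O b) (O c) :=
      Finset.disjoint_union_left.2 ⟨hdisj a c hc.1, hdisj b c hc.2⟩
    have hu' := Finset.card_union_of_disjoint hd'
    have := Finset.card_le_card (Finset.union_subset (Finset.union_subset (hsub a ha) (hsub b hbA)) (hsub c hcA))
    omega
  refine ⟨fun a ha b hb ha1 hb1 => ?_, ?_⟩
  · exact hmem.1 ((hall a (by simp [hA, ha, ha1])).ge (by simp [hA, hb, hb1]))
  · obtain ⟨a, ha⟩ := Finset.card_pos.1 (by rw [hA7]; norm_num : 0 < A.card)
    have := (hcard a ha).2.2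
    rwa [hall a ha, hA7] at this

theorem conj_involutions (hN : Nat.card G = 175560) (S : Sylow 2 G) {t u : G}
    (htS : t ∈ (S : Subgroup G)) (ht : orderOf t = 2) (hu : orderOf u = 2) :
    ∃ c : G, c * t * c⁻¹ = u := by
  haveI : Fact (Nat.Prime 2) := ⟨Nat.prime_two⟩
  obtain ⟨T, hT⟩ := (IsPGroup.of_card (p := 2) (n := 1)
    (by rw [Nat.card_zpowers, hu, pow_one]) : IsPGroup 2 (Subgroup.zpowers u)).exists_le_sylow
  obtain ⟨c, rfl⟩ := MulAction.exists_smul_eq G S T
  obtain ⟨v, hv, hve⟩ := hT (Subgroup.mem_zpowers u)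
  have hve' : c * v * c⁻¹ = u := hve
  have hv1 : v ≠ 1 := fun e => by rw [← hve', e, mul_one, mul_inv_cancel, orderOf_one] at hu; omega
  obtain ⟨n, -, hn⟩ := (transitive hN S).1 t htS v hv (fun e => by rw [e, orderOf_one] at ht; omega) hv1
  exact ⟨c * n, by rw [← hve', ← hn]; group⟩

theorem sylow_le_cent (hN : Nat.card G = 175560) (S : Sylow 2 G) {t : G} (htS : t ∈ (S : Subgroup G)) :
    (S : Subgroup G) ≤ Subgroup.centralizer ({t} : Set G) := fun s hs =>
  Subgroup.mem_centralizer_singleton_iff.2 (sylow_comm hN S hs htS)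

theorem card_cent (hN : Nat.card G = 175560) (S : Sylow 2 G) {t : G} (htS : t ∈ (S : Subgroup G))
    (ht : orderOf t = 2) : ∃ m, Nat.card (Subgroup.centralizer ({t} : Set G)) = 8 * m ∧ m ∣ 165 := by
  classical
  obtain ⟨m, hm⟩ := card_sylow_two hN S ▸ Subgroup.card_dvd_of_le (sylow_le_cent hN S htS)
  refine ⟨m, hm, ?_⟩
  have hm21945 : m ∣ 21945 := by
    refine Nat.dvd_of_mul_dvd_mul_left (k := 8) (by norm_num) ?_
    rw [← hm, show 8 * 21945 = 175560 by norm_num, ← hN]
    exact Subgroup.card_subgroup_dvd_card _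
  have h19 : ¬ 19 ∣ m := fun h => by
    haveI : Fact (Nat.Prime 19) := ⟨by norm_num⟩
    obtain ⟨y, hy⟩ := exists_prime_orderOf_dvd_card' (G := Subgroup.centralizer ({t} : Set G)) 19
      (hm ▸ h.mul_left 8)
    exact not_commute_nineteen hN (y := (y : G)) (by rw [Subgroup.orderOf_coe, hy]) ht
      (Subgroup.mem_centralizer_singleton_iff.1 y.2)
  have h7 : ¬ 7 ∣ m := fun h => by
    haveI : Fact (Nat.Prime 7) := ⟨by norm_num⟩
    haveI : Fact (Nat.Prime 2) := ⟨Nat.prime_two⟩
    set C := Subgroup.centralizer ({t} : Set G) with hC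
    obtain ⟨y, hy⟩ := exists_prime_orderOf_dvd_card' (G := C) 7 (hm ▸ h.mul_left 8)
    have hP7 := sylow_of_prime (p := 7) hN (m := 25080) (by norm_num) (by norm_num)
    rw [← Subgroup.orderOf_coe] at hy
    obtain ⟨P₀⟩ : Nonempty (Sylow 7 G) := inferInstance
    set P : Sylow 7 G := Sylow.ofCard (Subgroup.zpowers (y : G)) (by
      rw [Nat.card_zpowers, hy, ← P₀.card_eq_multiplicity, hP7 P₀]) with hPdef
    have hcy : Commute (y : G) t := Subgroup.mem_centralizer_singleton_iff.1 y.2
    have htC : t ∈ Subgroup.centralizer ((P : Subgroup G) : Set G) := by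
      rw [Subgroup.mem_centralizer_iff]
      rintro _ ⟨i, rfl⟩
      exact (hcy.zpow_left i).eq
    rcases cent7 hN P with hodd | ⟨hc, hn⟩
    · apply hodd
      have := Subgroup.orderOf_dvd_natCard _ htC
      rwa [ht] at this
    -- the centraliser is cyclic, so the normaliser centralises t
    have hNC : Subgroup.normalizer ((P : Subgroup G) : Set G) ≤ C := by
      intro g hg
      have hyP : (y : G) ∈ (P : Subgroup G) := Subgroup.mem_zpowers _
      set CP := Subgroup.centralizer ((P : Subgroup G) : Set G) with hCP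
      have hty : orderOf (t * (y : G)) = 14 := by
        rw [hcy.symm.orderOf_mul_eq_mul_orderOf_of_coprime (by rw [ht, hy]; norm_num), ht, hy]
      have hyC : (y : G) ∈ CP := by
        rw [hCP, Subgroup.mem_centralizer_iff]
        rintro _ ⟨i, rfl⟩
        exact ((Commute.refl (y : G)).zpow_left i).eq
      have htop : Subgroup.zpowers (t * (y : G)) = CP :=
        Subgroup.eq_of_le_of_card_ge (Subgroup.zpowers_le.2 (mul_mem htC hyC))
          (by rw [Nat.card_zpowers, hty, hc])
      have hgt : g * t * g⁻¹ ∈ CP := by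
        rw [hCP, Subgroup.mem_centralizer_iff]
        intro p hp
        have hp' : g⁻¹ * p * g ∈ (P : Subgroup G) := (Subgroup.mem_normalizer_iff''.1 hg p).1 hp
        calc p * (g * t * g⁻¹) = g * ((g⁻¹ * p * g) * t) * g⁻¹ := by group
          _ = g * (t * (g⁻¹ * p * g)) * g⁻¹ := by rw [Subgroup.mem_centralizer_iff.1 htC _ hp']
          _ = g * t * g⁻¹ * p := by group
      rw [← htop] at hgt
      haveI : IsCyclic (Subgroup.zpowers (t * (y : G))) := inferInstance
      have hti : t ∈ Subgroup.zpowers (t * (y : G)) := htop ▸ htC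
      have heq : Subgroup.zpowers (g * t * g⁻¹) = Subgroup.zpowers t := by
        have h2 : orderOf (g * t * g⁻¹) = 2 := by
          rw [← MulAut.conj_apply, MulEquiv.orderOf_eq, ht]
        have hle1 := Subgroup.zpowers_le.2 hgt
        have hle2 := Subgroup.zpowers_le.2 hti
        have e := CfsgLib.Blocks.Dihedral.cyclic_ext
          (H := (Subgroup.zpowers (g * t * g⁻¹)).subgroupOf (Subgroup.zpowers (t * (y : G))))
          (K := (Subgroup.zpowers t).subgroupOf (Subgroup.zpowers (t * (y : G)))) (by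
            rw [Nat.card_congr (Subgroup.subgroupOfEquivOfLe hle1).toEquiv,
              Nat.card_congr (Subgroup.subgroupOfEquivOfLe hle2).toEquiv, Nat.card_zpowers,
              Nat.card_zpowers, h2, ht])
        rw [Subgroup.subgroupOf_inj, inf_eq_left.2 hle1, inf_eq_left.2 hle2] at e
        exact e
      obtain ⟨i, hi⟩ : g * t * g⁻¹ ∈ Subgroup.zpowers t := heq ▸ Subgroup.mem_zpowers _
      have hi' : t ^ i = g * t * g⁻¹ := hi
      rw [hC, Subgroup.mem_centralizer_singleton_iff]
      rcases Int.even_or_odd i with ⟨j, rfl⟩ | ⟨j, rfl⟩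
      · exfalso
        rw [← two_mul, zpow_mul, zpow_two, ← sq, ← ht, pow_orderOf_eq_one, one_zpow, eq_comm, conj_eq_one_iff] at hi'
        rw [hi', orderOf_one] at ht; omega
      · rw [zpow_add, zpow_mul, zpow_two, ← sq, ← ht, pow_orderOf_eq_one, one_zpow, one_mul, zpow_one] at hi'
        calc g * t = g * t * g⁻¹ * g := by group
          _ = t * g := by rw [← hi']
    have hPC : (P : Subgroup G) ≤ C := Subgroup.le_normalizer.trans hNC
    have hmul := SmallOrder.card_normalizer_mul_card_sylow (P.subtype hPC)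
    have hn' : Nat.card (Subgroup.normalizer ((P.subtype hPC : Sylow 7 C) : Set C)) = 42 := by
      rw [← hn]
      refine (Nat.card_congr (?_ : _ ≃ ((Subgroup.normalizer ((P : Subgroup G) : Set G)).subgroupOf C : Subgroup C))).trans
        (Nat.card_congr (Subgroup.subgroupOfEquivOfLe hNC).toEquiv)
      refine Equiv.subtypeEquivRight fun c => ?_
      show c ∈ Subgroup.normalizer (((P : Subgroup G).subgroupOf C : Subgroup C) : Set C) ↔ _
      rw [← Subgroup.subgroupOf_normalizer_eq hPC]
    rw [hn', hm] at hmul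
    obtain ⟨hd, hmod⟩ := card_sylow_sub hP7 C (n := 8 * (m / 7)) (by rw [hm]; omega)
    have h1155 : m ∣ 1155 := Nat.Coprime.dvd_of_dvd_mul_right
      ((Nat.Prime.coprime_iff_not_dvd (by norm_num)).2 h19).symm (show m ∣ 1155 * 19 by norm_num; exact hm21945)
    have hlt : Nat.card (Sylow 7 C) < 221 := by
      have := Nat.le_of_dvd (by norm_num) h1155
      omega
    exact (show ∀ k < 221, ∀ m ∈ oddDivs, k % 7 = 1 → 42 * k ≠ 8 * m by decide +kernel) _ hlt m
      (mem_oddDivs m (Nat.lt_succ_of_le (Nat.le_of_dvd (by norm_num) h1155)) h1155) hmod hmul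
  have e1 : m ∣ 1155 := Nat.Coprime.dvd_of_dvd_mul_right
    ((Nat.Prime.coprime_iff_not_dvd (by norm_num)).2 h19).symm (show m ∣ 1155 * 19 by norm_num; exact hm21945)
  exact Nat.Coprime.dvd_of_dvd_mul_right
    ((Nat.Prime.coprime_iff_not_dvd (by norm_num)).2 h7).symm (show m ∣ 165 * 7 by norm_num; exact e1)

theorem exists_seven (hN : Nat.card G = 175560) (S : Sylow 2 G) :
    ∃ g ∈ Subgroup.normalizer ((S : Subgroup G) : Set G), orderOf g = 7 ∧
      ∀ s ∈ (S : Subgroup G), s ≠ 1 → g * s ≠ s * g := by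
  haveI : Fact (Nat.Prime 7) := ⟨by norm_num⟩
  obtain ⟨g, hg⟩ := exists_prime_orderOf_dvd_card' 7 (transitive hN S).2
  rw [← Subgroup.orderOf_coe] at hg
  refine ⟨g, g.2, hg, fun s hs hs1 h => ?_⟩
  obtain ⟨m, hm, h165⟩ := card_cent hN S hs (orderOf_of_mem hN S hs hs1)
  have h7 := Subgroup.orderOf_dvd_natCard (Subgroup.centralizer ({s} : Set G))
    (Subgroup.mem_centralizer_singleton_iff.2 h : (g : G) ∈ _)
  rw [hg, hm] at h7
  rcases (Nat.Prime.dvd_mul (by norm_num)).1 h7 with h' | h'
  · norm_num at h'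
  · have := h'.trans h165
    norm_num at this

/-- Centralisers of involutions have no normal Sylow subgroups of order `3`, `5` or `11`. -/
theorem no_normal_sylow (hN : Nat.card G = 175560) (S : Sylow 2 G) {t : G}
    (htS : t ∈ (S : Subgroup G)) (ht : orderOf t = 2) {r m : ℕ} [hr : Fact r.Prime]
    (hr3 : r = 3 ∨ r = 5 ∨ r = 11) (hrm : r * m = 175560)
    (hd : r ∣ Nat.card (Subgroup.centralizer ({t} : Set G))) :
    Nat.card (Sylow r (Subgroup.centralizer ({t} : Set G))) ≠ 1 := by
  classical
  intro h1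
  have hPr : ∀ P : Sylow r G, Nat.card P = r :=
    sylow_of_prime hN hrm (by rcases hr3 with rfl | rfl | rfl <;> omega)
  obtain ⟨R, hRC, hCR⟩ := exists_normalized hPr _ hd h1
  -- the same in every conjugate
  have hnorm : ∀ v ∈ (S : Subgroup G), v ≠ 1 → (R : Subgroup G) ≤ Subgroup.centralizer ({v} : Set G) →
      Subgroup.centralizer ({v} : Set G) ≤ Subgroup.normalizer ((R : Subgroup G) : Set G) := by
    intro v hv hv1 hRv
    obtain ⟨c, hc⟩ := conj_involutions hN S htS ht (orderOf_of_mem hN S hv hv1)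
    let e : Subgroup.centralizer ({t} : Set G) ≃* Subgroup.centralizer ({v} : Set G) :=
      ((Subgroup.centralizer ({t} : Set G)).equivMapOfInjective (MulAut.conj c).toMonoidHom
        (MulAut.conj c).injective).trans (MulEquiv.subgroupCongr (by
          ext x
          rw [Subgroup.mem_map_equiv, Subgroup.mem_centralizer_singleton_iff,
            Subgroup.mem_centralizer_singleton_iff, MulAut.conj_symm_apply, ← hc]
          constructor
          · intro h
            calc x * (c * t * c⁻¹) = c * (c⁻¹ * x * c * t) * c⁻¹ := by group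
              _ = c * (t * (c⁻¹ * x * c)) * c⁻¹ := by rw [h]
              _ = c * t * c⁻¹ * x := by group
          · intro h
            calc c⁻¹ * x * c * t = c⁻¹ * (x * (c * t * c⁻¹)) * c := by group
              _ = c⁻¹ * (c * t * c⁻¹ * x) * c := by rw [h]
              _ = t * (c⁻¹ * x * c) := by group))
    have h1' : Nat.card (Sylow r (Subgroup.centralizer ({v} : Set G))) = 1 := by
      obtain ⟨Q⟩ : Nonempty (Sylow r (Subgroup.centralizer ({t} : Set G))) := inferInstance
      obtain ⟨Q'⟩ : Nonempty (Sylow r (Subgroup.centralizer ({v} : Set G))) := inferInstance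
      haveI : Subsingleton (Sylow r (Subgroup.centralizer ({t} : Set G))) :=
        (Nat.card_eq_one_iff_unique.1 h1).1
      haveI hQn : (Q : Subgroup (Subgroup.centralizer ({t} : Set G))).Normal := Sylow.normal_of_subsingleton Q
      haveI : ((Q.mapSurjective (f := e.toMonoidHom) e.surjective : Sylow r _) : Subgroup (Subgroup.centralizer ({v} : Set G))).Normal :=
        hQn.map _ e.surjective
      haveI := Sylow.unique_of_normal (Q.mapSurjective (f := e.toMonoidHom) e.surjective) inferInstance
      exact Nat.card_unique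
    obtain ⟨R', -, hR'⟩ := exists_normalized hPr _ (by rw [← Nat.card_congr e.toEquiv]; exact hd) h1'
    have heq : R = R' := by
      have h2 : (R : Subgroup G) ≤ (R' : Subgroup G) := fun x hx =>
        ((IsPGroup.inf_normalizer_sylow R.2 R').le ⟨hx, hR' (hRv hx)⟩).2
      exact Sylow.ext (R.3 R'.2 h2).symm
    rw [heq]
    exact hR'
  set U := (S : Subgroup G) ⊓ Subgroup.centralizer ((R : Subgroup G) : Set G) with hU
  have hRle : ∀ v ∈ U, (R : Subgroup G) ≤ Subgroup.centralizer ({v} : Set G) := fun v hv x hx =>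
    Subgroup.mem_centralizer_singleton_iff.2 (Subgroup.mem_centralizer_iff.1 hv.2 x hx)
  obtain ⟨x, hx⟩ := exists_prime_orderOf_dvd_card' (G := (R : Subgroup G)) r (by
    rw [show Nat.card (R : Subgroup G) = r from hPr R])
  rw [← Subgroup.orderOf_coe] at hx
  have hRx : Subgroup.zpowers (x : G) = (R : Subgroup G) :=
    Subgroup.eq_of_le_of_card_ge (Subgroup.zpowers_le.2 x.2) (by
      rw [Nat.card_zpowers, hx, show Nat.card (R : Subgroup G) = r from hPr R])
  have hUmem : ∀ s ∈ (S : Subgroup G), s * x * s⁻¹ = x → s ∈ U := fun s hs h => by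
    refine ⟨hs, Subgroup.mem_centralizer_iff.2 ?_⟩
    rw [← hRx]
    rintro _ ⟨i, rfl⟩
    have hc : Commute s (x : G) := mul_inv_eq_iff_eq_mul.1 h
    exact (hc.zpow_right i).eq.symm
  have hdich : ∀ s ∈ (S : Subgroup G), s * x * s⁻¹ = x ∨ s * x * s⁻¹ = (x : G)⁻¹ := by
    intro s hs
    have hsN := hCR (sylow_le_cent hN S htS hs)
    obtain ⟨i, hi⟩ : s * x * s⁻¹ ∈ Subgroup.zpowers (x : G) := by
      rw [hRx]
      exact (Subgroup.mem_normalizer_iff.1 hsN x).1 x.2
    have hi' : (x : G) ^ i = s * x * s⁻¹ := hi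
    have h2 : (x : G) ^ (i * i) = x := by
      rw [zpow_mul, hi', conj_zpow, hi']
      have := elementary hN S s hs
      calc s * (s * x * s⁻¹) * s⁻¹ = (s * s) * x * (s * s)⁻¹ := by group
        _ = x := by rw [this]; group
    have h3 : (r : ℤ) ∣ (i - 1) * (i + 1) := by
      rw [← hx, orderOf_dvd_iff_zpow_eq_one, show (i - 1) * (i + 1) = i * i + -1 by ring, zpow_add,
        h2, zpow_neg, zpow_one, mul_inv_cancel]
    rcases (Nat.prime_iff_prime_int.1 hr.out).dvd_mul.1 h3 with h | h
    · left
      rw [← hx, orderOf_dvd_iff_zpow_eq_one, zpow_sub, zpow_one, mul_inv_eq_one] at h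
      rw [← hi', h]
    · right
      rw [← hx, orderOf_dvd_iff_zpow_eq_one, zpow_add, zpow_one] at h
      rw [← hi', eq_inv_of_mul_eq_one_left h]
  have hU4 : 4 ≤ Nat.card U := by
    by_cases hall : ∀ s ∈ (S : Subgroup G), s ∈ U
    · have := Subgroup.card_le_of_le (fun s hs => hall s hs : (S : Subgroup G) ≤ U)
      rw [card_sylow_two hN S] at this
      omega
    push Not at hall
    obtain ⟨a, ha, haU⟩ := hall
    have hinva : a * x * a⁻¹ = (x : G)⁻¹ := (hdich a ha).resolve_left fun h => haU (hUmem a ha h)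
    let f : ↥(S : Subgroup G) → U × Bool := fun s =>
      if h : (s : G) ∈ U then (⟨s, h⟩, true) else (⟨a * s, by
        refine hUmem _ (mul_mem ha s.2) ?_
        have hinv := (hdich s s.2).resolve_left fun e => h (hUmem s s.2 e)
        rw [show a * (s : G) * x * (a * (s : G))⁻¹ = a * ((s : G) * x * (s : G)⁻¹) * a⁻¹ by group, hinv,
          show a * (x : G)⁻¹ * a⁻¹ = (a * x * a⁻¹)⁻¹ by group, hinva, inv_inv]⟩, false)
    have hf : Function.Injective f := by
      intro p q e
      simp only [f] at e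
      by_cases hp : (p : G) ∈ U <;> by_cases hq : (q : G) ∈ U <;> simp [hp, hq] at e
      · exact e
      · exact e
    have := Nat.card_le_card_of_injective f hf
    rw [card_sylow_two hN S, Nat.card_prod, Nat.card_eq_fintype_card (α := Bool), Fintype.card_bool] at this
    omega
  obtain ⟨g, hgN, hgo, hgfix⟩ := exists_seven hN S
  -- a common element of two of the subgroups
  have hgU : ∀ u ∈ U, g * u * g⁻¹ ∈ (S : Subgroup G) := fun u hu =>
    (Subgroup.mem_normalizer_iff.1 hgN u).1 hu.1
  obtain ⟨v, hv, hvg, hv1⟩ : ∃ v, v ∈ U ∧ g⁻¹ * v * g ∈ U ∧ v ≠ 1 := by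
    by_contra hcon
    push Not at hcon
    let f : U × U → (S : Subgroup G) := fun p =>
      ⟨(p.1 : G) * (g * (p.2 : G) * g⁻¹), mul_mem p.1.2.1 (hgU _ p.2.2)⟩
    have hf : Function.Injective f := by
      rintro ⟨a, b⟩ ⟨a', b'⟩ e
      have e' : (a : G) * (g * b * g⁻¹) = a' * (g * b' * g⁻¹) := congrArg Subtype.val e
      have hw : (a' : G)⁻¹ * a = g * ((b' : G) * (b : G)⁻¹) * g⁻¹ := by
        rw [inv_mul_eq_iff_eq_mul, show g * ((b' : G) * (b : G)⁻¹) * g⁻¹ = g * b' * g⁻¹ * (g * b * g⁻¹)⁻¹ by group,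
          ← mul_assoc, ← e', mul_inv_cancel_right]
      have hw1 : (a' : G)⁻¹ * a = 1 := hcon _ (mul_mem (inv_mem a'.2) a.2) (by
        rw [hw]; simpa [mul_assoc] using mul_mem b'.2 (inv_mem b.2))
      have ha : a = a' := Subtype.ext (inv_mul_eq_one.1 hw1).symm
      subst ha
      rw [hw1, eq_comm, conj_eq_one_iff, mul_inv_eq_one] at hw
      rw [Subtype.ext hw]
    have := Nat.card_le_card_of_injective f hf
    rw [Nat.card_prod, card_sylow_two hN S] at this
    nlinarith
  have hC1 := hnorm v hv.1 hv1 (hRle v hv)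
  have hgR : g ∈ Subgroup.normalizer ((R : Subgroup G) : Set G) := by
    have hle : ((g • R : Sylow r G) : Subgroup G) ≤ Subgroup.centralizer ({v} : Set G) := by
      rintro _ ⟨p, hp, rfl⟩
      rw [Subgroup.mem_centralizer_singleton_iff]
      show g * p * g⁻¹ * v = v * (g * p * g⁻¹)
      have := Subgroup.mem_centralizer_singleton_iff.1 (hRle _ hvg hp)
      calc g * p * g⁻¹ * v = g * (p * (g⁻¹ * v * g)) * g⁻¹ := by group
        _ = g * ((g⁻¹ * v * g) * p) * g⁻¹ := by rw [this]
        _ = v * (g * p * g⁻¹) := by group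
    have h2 : ((g • R : Sylow r G) : Subgroup G) ≤ (R : Subgroup G) := fun x hx =>
      ((IsPGroup.inf_normalizer_sylow (g • R).2 R).le ⟨hx, hC1 (hle hx)⟩).2
    exact Sylow.smul_eq_iff_mem_normalizer.1 (Sylow.ext ((g • R).3 R.2 h2).symm)
  by_cases hSU : (S : Subgroup G) ≤ U
  · have h8 : 8 ∣ Nat.card (Subgroup.centralizer ((R : Subgroup G) : Set G)) :=
      card_sylow_two hN S ▸ Subgroup.card_dvd_of_le (hSU.trans inf_le_right)
    rcases hr3 with rfl | rfl | rfl
    · exact not_eight_dvd hN (Or.inl rfl) hrm R h8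
    · exact not_eight_dvd hN (Or.inr rfl) hrm R h8
    · have := Subgroup.orderOf_dvd_natCard _ hgR
      rw [hgo] at this
      exact not_seven_dvd_normalizer hN R this
  · have hU4' : Nat.card U = 4 := by
      have hUS : U ≤ (S : Subgroup G) := inf_le_left
      have hd' := Subgroup.card_dvd_of_le hUS
      rw [card_sylow_two hN S] at hd'
      have hne : Nat.card U ≠ 8 := fun e => hSU
        (Subgroup.eq_of_le_of_card_ge hUS (by rw [e, card_sylow_two hN S])).ge
      have := Nat.le_of_dvd (by norm_num) hd'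
      have h567 : Nat.card U = 4 ∨ Nat.card U = 5 ∨ Nat.card U = 6 ∨ Nat.card U = 7 := by omega
      rcases h567 with e | e | e | e
      · exact e
      all_goals rw [e] at hd'; norm_num at hd'
    haveI : Fact (Nat.Prime 7) := ⟨by norm_num⟩
    have hconj : ∀ u ∈ U, g * u * g⁻¹ ∈ U := fun u hu => by
      refine ⟨hgU u hu, Subgroup.mem_centralizer_iff.2 fun p hp => ?_⟩
      have hp' : g⁻¹ * p * g ∈ (R : Subgroup G) := (Subgroup.mem_normalizer_iff''.1 hgR p).1 hp
      calc p * (g * u * g⁻¹) = g * ((g⁻¹ * p * g) * u) * g⁻¹ := by group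
        _ = g * (u * (g⁻¹ * p * g)) * g⁻¹ := by rw [Subgroup.mem_centralizer_iff.1 hu.2 _ hp']
        _ = g * u * g⁻¹ * p := by group
    exact hgfix v hv.1 hv1 (commute_of_small hgo U hconj (by rw [hU4']; norm_num) hv)

theorem card_involutions_mul (hN : Nat.card G = 175560) (S : Sylow 2 G) {t : G}
    (htS : t ∈ (S : Subgroup G)) (ht : orderOf t = 2) :
    Nat.card {u : G // orderOf u = 2} * Nat.card (Subgroup.centralizer ({t} : Set G)) = 175560 := by
  rw [← hN, ← CfsgLib.CharTheory.card_isConj_mul_card_centralizer t]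
  congr 1
  refine Nat.card_congr (Equiv.subtypeEquivRight fun u => ⟨fun hu => ?_, fun h => ?_⟩)
  · obtain ⟨c, hc⟩ := conj_involutions hN S htS ht hu
    exact isConj_iff.2 ⟨c, hc⟩
  · obtain ⟨c, rfl⟩ := isConj_iff.1 h
    rw [← MulAut.conj_apply, MulEquiv.orderOf_eq, ht]

/-- Fibres of `u ↦ C_S(u)` on involutions outside `S`. -/
theorem dvd_fibre (hN : Nat.card G = 175560) (S : Sylow 2 G) (V : Subgroup G) {k : ℕ}
    (hk : k ∣ Nat.card V ∨ k * Nat.card V ∣ 8) :
    k ∣ Nat.card {u : G // orderOf u = 2 ∧ u ∉ (S : Subgroup G) ∧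
      (S : Subgroup G) ⊓ Subgroup.centralizer ({u} : Set G) = V} := by
  classical
  set X := {u : G // orderOf u = 2 ∧ u ∉ (S : Subgroup G) ∧
      (S : Subgroup G) ⊓ Subgroup.centralizer ({u} : Set G) = V} with hX
  rcases isEmpty_or_nonempty X with h | ⟨⟨u₀, -, -, hV₀⟩⟩
  · simp
  have hVS : V ≤ (S : Subgroup G) := hV₀ ▸ inf_le_left
  haveI : Fact (Nat.Prime 2) := ⟨Nat.prime_two⟩
  rcases hk with hk | hk
  · -- translations
    have hmem : ∀ (v : V) (u : X), orderOf ((v : G) * u.1) = 2 ∧ (v : G) * u.1 ∉ (S : Subgroup G) ∧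
        (S : Subgroup G) ⊓ Subgroup.centralizer ({(v : G) * u.1} : Set G) = V := by
      intro v u
      obtain ⟨hu2, huS, huV⟩ := u.2
      have hvc : Commute (v : G) u.1 :=
        Subgroup.mem_centralizer_singleton_iff.1 (huV.ge v.2 : (v : G) ∈ _).2
      have hns : (v : G) * u.1 ∉ (S : Subgroup G) := fun h => huS (by
        simpa using mul_mem (inv_mem (hVS v.2)) h)
      refine ⟨orderOf_eq_prime ?_ fun e => hns (e ▸ one_mem _), hns, le_antisymm ?_ ?_⟩
      · rw [sq, hvc.symm.mul_mul_mul_comm, elementary hN S _ (hVS v.2), one_mul, ← sq]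
        have := pow_orderOf_eq_one u.1
        rwa [hu2] at this
      · intro s hs
        rw [← huV]
        refine ⟨hs.1, Subgroup.mem_centralizer_singleton_iff.2 ?_⟩
        have h1 : Commute s ((v : G) * u.1) := Subgroup.mem_centralizer_singleton_iff.1 hs.2
        have h2 : Commute s (v : G) := sylow_comm hN S hs.1 (hVS v.2)
        have := h2.inv_right.mul_right h1
        rwa [inv_mul_cancel_left] at this
      · intro s hs
        have hs' := (huV.ge hs : s ∈ (S : Subgroup G) ⊓ _)
        refine ⟨hVS hs, Subgroup.mem_centralizer_singleton_iff.2 ?_⟩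
        exact (show Commute s (v : G) from sylow_comm hN S (hVS hs) (hVS v.2)).mul_right
          (Subgroup.mem_centralizer_singleton_iff.1 hs'.2)
    letI : MulAction V X :=
      { smul := fun v u => ⟨(v : G) * u.1, hmem v u⟩
        one_smul := fun u => Subtype.ext (one_mul u.1)
        mul_smul := fun v w u => Subtype.ext (mul_assoc (v : G) w u.1) }
    refine hk.trans (dvd_card_of_stabilizer (H := V) _ fun u => ?_)
    have : MulAction.stabilizer V u = ⊥ := (Subgroup.eq_bot_iff_forall _).2 fun v hv => Subtype.ext (by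
      have e : (v : G) * u.1 = u.1 := congrArg Subtype.val hv
      exact mul_eq_right.1 e)
    rw [this, Subgroup.index_bot]
  · -- conjugation
    have hmem : ∀ (s : (S : Subgroup G)) (u : X), orderOf ((s : G) * u.1 * (s : G)⁻¹) = 2 ∧
        (s : G) * u.1 * (s : G)⁻¹ ∉ (S : Subgroup G) ∧
        (S : Subgroup G) ⊓ Subgroup.centralizer ({(s : G) * u.1 * (s : G)⁻¹} : Set G) = V := by
      intro s u
      obtain ⟨hu2, huS, huV⟩ := u.2
      refine ⟨by rw [← MulAut.conj_apply, MulEquiv.orderOf_eq, hu2], fun h => huS ?_, ?_⟩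
      · have := mul_mem (mul_mem (inv_mem s.2) h) s.2
        simpa [mul_assoc] using this
      · refine Eq.trans ?_ huV
        ext a
        simp only [Subgroup.mem_inf, Subgroup.mem_centralizer_singleton_iff]
        refine and_congr_right fun ha => ?_
        have hc : Commute a (s : G) := sylow_comm hN S ha s.2
        constructor
        · intro h
          have := (hc.inv_right.mul_right (show Commute a _ from h)).mul_right hc
          simp only [mul_assoc, inv_mul_cancel_left, inv_mul_cancel, mul_one] at this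
          exact this
        · intro h
          exact (hc.mul_right (show Commute a u.1 from h)).mul_right hc.inv_right
    letI : MulAction (S : Subgroup G) X :=
      { smul := fun s u => ⟨(s : G) * u.1 * (s : G)⁻¹, hmem s u⟩
        one_smul := fun u => Subtype.ext (show (1 : G) * u.1 * (1 : G)⁻¹ = u.1 by simp)
        mul_smul := fun s w u => Subtype.ext
          (show (s : G) * w * u.1 * ((s : G) * w)⁻¹ = s * (w * u.1 * (w : G)⁻¹) * (s : G)⁻¹ by group) }
    refine dvd_card_of_stabilizer (H := (S : Subgroup G)) _ fun u => ?_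
    have hst : MulAction.stabilizer (S : Subgroup G) u = V.subgroupOf (S : Subgroup G) := by
      ext s
      rw [MulAction.mem_stabilizer_iff, Subgroup.mem_subgroupOf, ← u.2.2.2, Subgroup.mem_inf,
        Subgroup.mem_centralizer_singleton_iff]
      refine ⟨fun h => ⟨s.2, ?_⟩, fun h => Subtype.ext ?_⟩
      · exact mul_inv_eq_iff_eq_mul.1 (congrArg Subtype.val h : (s : G) * u.1 * (s : G)⁻¹ = u.1)
      · exact mul_inv_eq_iff_eq_mul.2 h.2
    have hmul := (MulAction.stabilizer (S : Subgroup G) u).card_mul_index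
    rw [hst, Nat.card_congr (Subgroup.subgroupOfEquivOfLe hVS).toEquiv, card_sylow_two hN S] at hmul
    rw [hst]
    refine Nat.dvd_of_mul_dvd_mul_left (Nat.card_pos (α := V)) ?_
    rw [hmul, mul_comm]
    exact hk

/-- The number of involutions outside a Sylow subgroup. -/
theorem count (hN : Nat.card G = 175560) (S : Sylow 2 G) {k : ℕ}
    (hk : ∀ u : G, orderOf u = 2 → u ∉ (S : Subgroup G) →
      k ∣ Nat.card ((S : Subgroup G) ⊓ Subgroup.centralizer ({u} : Set G) : Subgroup G) ∨
        k * Nat.card ((S : Subgroup G) ⊓ Subgroup.centralizer ({u} : Set G) : Subgroup G) ∣ 8) :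
    ∃ q, Nat.card {u : G // orderOf u = 2} = 7 + k * q := by
  classical
  haveI := Fintype.ofFinite G
  set I : Finset G := Finset.univ.filter fun u => orderOf u = 2 with hI
  set J : Finset G := I.filter fun u => u ∉ (S : Subgroup G) with hJ
  have h7 : (I.filter fun u => u ∈ (S : Subgroup G)).card = 7 := by
    have : (I.filter fun u => u ∈ (S : Subgroup G)) =
        (Finset.univ.filter fun x => x ∈ (S : Subgroup G)).erase 1 := by
      ext x
      simp only [hI, Finset.mem_filter, Finset.mem_univ, true_and, Finset.mem_erase]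
      exact ⟨fun h => ⟨fun e => by rw [e, orderOf_one] at h; omega, h.2⟩,
        fun h => ⟨orderOf_of_mem hN S h.2 h.1, h.2⟩⟩
    rw [this, Finset.card_erase_of_mem (by simp), ← Fintype.card_subtype, ← Nat.card_eq_fintype_card,
      card_sylow_two hN S]
  have hdiv : k ∣ J.card := by
    rw [Finset.card_eq_sum_card_image (fun u => (S : Subgroup G) ⊓ Subgroup.centralizer ({u} : Set G)) J]
    refine Finset.dvd_sum fun V hV => ?_
    obtain ⟨u, hu, rfl⟩ := Finset.mem_image.1 hV
    simp only [hJ, hI, Finset.mem_filter, Finset.mem_univ, true_and] at hu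
    have := dvd_fibre hN S ((S : Subgroup G) ⊓ Subgroup.centralizer ({u} : Set G)) (hk u hu.1 hu.2)
    rw [Nat.card_eq_fintype_card, Fintype.card_subtype] at this
    refine (congrArg (k ∣ ·) (congrArg Finset.card ?_)).mp this
    ext x
    simp [hJ, hI, and_assoc]
  obtain ⟨q, hq⟩ := hdiv
  refine ⟨q, ?_⟩
  rw [Nat.card_eq_fintype_card, Fintype.card_subtype, ← hq, ← h7]
  exact (Finset.card_filter_add_card_filter_not (s := I) _).symm

theorem three_or_fifteen (hN : Nat.card G = 175560) (S : Sylow 2 G) {t : G}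
    (htS : t ∈ (S : Subgroup G)) (ht : orderOf t = 2) :
    Nat.card (Subgroup.centralizer ({t} : Set G)) = 24 ∨
      Nat.card (Subgroup.centralizer ({t} : Set G)) = 120 := by
  classical
  haveI : Fact (Nat.Prime 11) := ⟨by norm_num⟩
  obtain ⟨m, hm, h165⟩ := card_cent hN S htS ht
  obtain ⟨q, hq⟩ := count hN S (k := 4) fun u hu huS => by
    set V := (S : Subgroup G) ⊓ Subgroup.centralizer ({u} : Set G)
    have hd : Nat.card V ∣ 2 ^ 3 := (Subgroup.card_dvd_of_le inf_le_left).trans (by
      rw [card_sylow_two hN S]; norm_num)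
    obtain ⟨j, hj, e⟩ := (Nat.dvd_prime_pow Nat.prime_two).1 hd
    rw [e]
    interval_cases j <;> norm_num
  have hI := card_involutions_mul hN S htS ht
  rw [hm, hq] at hI
  have hI' : (7 + 4 * q) * m = 21945 := by nlinarith
  have hmod : m % 4 = 3 := by
    have h : 7 * m + 4 * (q * m) = 21945 := by rw [← hI']; ring
    omega
  have hm' : m = 3 ∨ m = 11 ∨ m = 15 ∨ m = 55 :=
    (show ∀ d < 166, d ∣ 165 → d % 4 = 3 → d = 3 ∨ d = 11 ∨ d = 15 ∨ d = 55 by decide +kernel) m
      (Nat.lt_succ_of_le (Nat.le_of_dvd (by norm_num) h165)) h165 hmod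
  rcases hm' with rfl | rfl | rfl | rfl
  · exact Or.inl hm
  · exfalso
    obtain ⟨hd, hmo⟩ := card_sylow_facts (p := 11) (n := 8) hm (by norm_num)
    refine no_normal_sylow hN S htS ht (r := 11) (m := 15960) (by norm_num) (by norm_num) (by rw [hm]; norm_num) ?_
    have := Nat.le_of_dvd (by norm_num) hd
    omega
  · exact Or.inr hm
  · exfalso
    obtain ⟨hd, hmo⟩ := card_sylow_facts (p := 11) (n := 40) hm (by norm_num)
    refine no_normal_sylow hN S htS ht (r := 11) (m := 15960) (by norm_num) (by norm_num) (by rw [hm]; norm_num) ?_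
    exact (show ∀ d < 41, d ∣ 40 → d % 11 = 1 → d = 1 by decide +kernel) _
      (Nat.lt_succ_of_le (Nat.le_of_dvd (by norm_num) hd)) hd hmo

theorem card_eq (hN : Nat.card G = 175560) (S : Sylow 2 G) {t : G}
    (htS : t ∈ (S : Subgroup G)) (ht : orderOf t = 2) :
    Nat.card (Subgroup.centralizer ({t} : Set G)) = 120 := by
  classical
  refine (three_or_fifteen hN S htS ht).resolve_left fun h24 => ?_
  haveI : Fact (Nat.Prime 2) := ⟨Nat.prime_two⟩
  haveI : Fact (Nat.Prime 3) := ⟨Nat.prime_three⟩
  have hin : ∀ v ∈ (S : Subgroup G), v ≠ 1 → ∀ u, orderOf u = 2 →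
      u * v = v * u → u ∈ (S : Subgroup G) := by
    intro v hv hv1 u hu huv
    have hv2 := orderOf_of_mem hN S hv hv1
    have hcard : Nat.card (Subgroup.centralizer ({v} : Set G)) = 24 := by
      have h1 := card_involutions_mul hN S htS ht
      have h2 := card_involutions_mul hN S hv hv2
      rw [h24] at h1
      exact Nat.eq_of_mul_eq_mul_left (Nat.pos_of_ne_zero fun e => by simp [e] at h1) (h2.trans h1.symm)
    set C := Subgroup.centralizer ({v} : Set G) with hC
    set S' : Sylow 2 C := S.subtype (sylow_le_cent hN S hv) with hS'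
    have hS'8 : Nat.card (S' : Subgroup C) = 8 := by
      show Nat.card ((S : Subgroup G).subgroupOf C) = 8
      rw [Nat.card_congr (Subgroup.subgroupOfEquivOfLe (sylow_le_cent hN S hv)).toEquiv, card_sylow_two hN S]
    have h1 : Nat.card (Sylow 2 C) = 1 := by
      have hmul := SmallOrder.card_normalizer_mul_card_sylow S'
      rw [hcard] at hmul
      have h8N : 8 ∣ Nat.card (Subgroup.normalizer (S' : Set C)) :=
        hS'8 ▸ Subgroup.card_dvd_of_le Subgroup.le_normalizer
      obtain ⟨a, ha⟩ := h8N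
      rw [ha] at hmul
      have hab : a * Nat.card (Sylow 2 C) = 3 := by nlinarith
      rcases (Nat.dvd_prime Nat.prime_three).1 (Dvd.intro_left a hab) with e | e
      · exact e
      · exfalso
        rw [e] at hab
        have hN8 : Nat.card (Subgroup.normalizer (S' : Set C)) = 8 := by
          rw [ha]; omega
        have heq : (S' : Subgroup C) = Subgroup.normalizer (S' : Set C) :=
          Subgroup.eq_of_le_of_card_ge Subgroup.le_normalizer (by rw [hN8, hS'8])
        have hle : Subgroup.normalizer (S' : Set C) ≤ Subgroup.centralizer (S' : Set C) := fun x hx => by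
          rw [← heq] at hx
          exact Subgroup.mem_centralizer_iff.2 fun y hy => Subtype.ext (sylow_comm hN S hy hx)
        have hker := MonoidHom.ker_transferSylow_isComplement' S' hle
        have hidx : (MonoidHom.transferSylow S' hle).ker.index = 8 := hker.symm.index_eq_card.trans hS'8
        have hle3 := card_sylow_le_normal (p := 3) (MonoidHom.transferSylow S' hle).ker (by rw [hidx]; norm_num)
        have hk3 : Nat.card (MonoidHom.transferSylow S' hle).ker = 3 * 1 := by
          have := (MonoidHom.transferSylow S' hle).ker.card_mul_index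
          rw [hidx, hcard] at this
          omega
        obtain ⟨hd, -⟩ := card_sylow_facts (p := 3) hk3 (by norm_num)
        rw [Nat.dvd_one.1 hd] at hle3
        refine no_normal_sylow hN S hv hv2 (r := 3) (m := 58520) (by norm_num) (by norm_num) (by rw [hcard]; norm_num) ?_
        exact le_antisymm hle3 Nat.card_pos
    haveI : Subsingleton (Sylow 2 C) := (Nat.card_eq_one_iff_unique.1 h1).1
    have huC : u ∈ C := Subgroup.mem_centralizer_singleton_iff.2 huv
    obtain ⟨T, hT⟩ := (IsPGroup.of_card (p := 2) (n := 1) (by rw [Nat.card_zpowers, Subgroup.orderOf_mk, hu, pow_one]) :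
      IsPGroup 2 (Subgroup.zpowers (⟨u, huC⟩ : C))).exists_le_sylow
    rw [Subsingleton.elim T S'] at hT
    exact hT (Subgroup.mem_zpowers _)
  obtain ⟨q, hq⟩ := count hN S (k := 8) fun u hu huS => by
    have hbot : (S : Subgroup G) ⊓ Subgroup.centralizer ({u} : Set G) = ⊥ :=
      (Subgroup.eq_bot_iff_forall _).2 fun v hv => by
        by_contra hv1
        exact huS (hin v hv.1 hv1 u hu (Subgroup.mem_centralizer_singleton_iff.1 hv.2).symm)
    rw [hbot, Subgroup.card_bot]
    exact Or.inr (by norm_num)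
  have hI := card_involutions_mul hN S htS ht
  rw [h24, hq] at hI
  omega

/-- The centraliser of an involution. -/
theorem exists_centralizer (hN : Nat.card G = 175560) :
    ∃ t : G, Cfsg.IsTwoCentralInvolution t ∧
      Nonempty (Subgroup.centralizer ({t} : Set G) ≃* Multiplicative (ZMod 2) × alternatingGroup (Fin 5)) := by
  classical
  haveI : Fact (Nat.Prime 2) := ⟨Nat.prime_two⟩
  haveI : Fact (Nat.Prime 5) := ⟨by norm_num⟩
  obtain ⟨S⟩ : Nonempty (Sylow 2 G) := inferInstance
  obtain ⟨t₀, ht₀⟩ := exists_prime_orderOf_dvd_card' (G := (S : Subgroup G)) 2 (by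
    rw [card_sylow_two hN S]; norm_num)
  rw [← Subgroup.orderOf_coe] at ht₀
  set t : G := (t₀ : G) with htdef
  refine ⟨t, ⟨ht₀, S, t₀.2, fun x hx => sylow_comm hN S hx t₀.2⟩, ?_⟩
  have h120 := card_eq hN S t₀.2 ht₀
  set C := Subgroup.centralizer ({t} : Set G) with hC
  have hSC := sylow_le_cent hN S t₀.2
  set S' : Sylow 2 C := S.subtype hSC with hS'
  have hS'8 : Nat.card (S' : Subgroup C) = 8 := by
    show Nat.card ((S : Subgroup G).subgroupOf C) = 8
    rw [Nat.card_congr (Subgroup.subgroupOfEquivOfLe hSC).toEquiv, card_sylow_two hN S]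
  have hn5 : Nat.card (Sylow 5 C) ≠ 1 :=
    no_normal_sylow hN S t₀.2 ht₀ (r := 5) (m := 35112) (by norm_num) (by norm_num) (by rw [h120]; norm_num)
  set tc : C := ⟨t, Subgroup.mem_centralizer_singleton_iff.2 rfl⟩ with htc
  have htc2 : orderOf tc = 2 := by rw [← Subgroup.orderOf_coe]; exact ht₀
  have hcent : ∀ c : C, c * tc = tc * c := fun c =>
    Subtype.ext (Subgroup.mem_centralizer_singleton_iff.1 c.2)
  set T := Subgroup.zpowers tc with hT
  haveI : T.Normal := ⟨fun a ha c => by
    obtain ⟨i, rfl⟩ := ha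
    rw [((show Commute c tc from hcent c).zpow_right i).eq, mul_inv_cancel_right]
    exact ⟨i, rfl⟩⟩
  have hTc : Nat.card T = 2 := by rw [hT, Nat.card_zpowers, htc2]
  have hQ : Nat.card (C ⧸ T) = 60 := by
    have := Subgroup.card_eq_card_quotient_mul_card_subgroup T
    rw [hTc, h120] at this
    omega
  haveI hsimple : IsSimpleGroup (C ⧸ T) := by
    refine simple_sixty hQ fun h1 => hn5 ?_
    obtain ⟨R⟩ : Nonempty (Sylow 5 (C ⧸ T)) := inferInstance
    haveI : Subsingleton (Sylow 5 (C ⧸ T)) := (Nat.card_eq_one_iff_unique.1 h1).1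
    haveI : (R : Subgroup (C ⧸ T)).Normal := Sylow.normal_of_subsingleton R
    set M := (R : Subgroup (C ⧸ T)).comap (QuotientGroup.mk' T) with hM
    have hMi : M.index = (R : Subgroup (C ⧸ T)).index :=
      Subgroup.index_comap_of_surjective _ (QuotientGroup.mk'_surjective T)
    haveI : M.Normal := Subgroup.Normal.comap inferInstance _
    have hle := card_sylow_le_normal (p := 5) M (hMi ▸ R.not_dvd_index)
    have hR : Nat.card (R : Subgroup (C ⧸ T)) = 5 := by
      have := SmallOrder.card_sylow_eq (k := 1) R (by rw [hQ]; norm_num) (by rw [hQ]; norm_num)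
      simpa using this
    have hRi := (R : Subgroup (C ⧸ T)).card_mul_index
    rw [hR, hQ] at hRi
    have hM10 : Nat.card M = 5 * 2 := by
      have := M.card_mul_index
      rw [hMi, show (R : Subgroup (C ⧸ T)).index = 12 by omega, h120] at this
      omega
    obtain ⟨hd, hmod⟩ := card_sylow_facts (p := 5) hM10 (by norm_num)
    have := Nat.le_of_dvd (by norm_num) hd
    have := Nat.card_pos (α := Sylow 5 C)
    omega
  obtain ⟨eA⟩ := Cfsg.Agent.S0494.result hQ
  -- the transfer to the Sylow subgroup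
  letI : CommGroup (S' : Subgroup C) := { (inferInstance : Group (S' : Subgroup C)) with
    mul_comm := fun a b => Subtype.ext (Subtype.ext (sylow_comm hN S a.2 b.2)) }
  let v : C →* (S' : Subgroup C) := MonoidHom.transfer (MonoidHom.id (S' : Subgroup C))
  have htS' : tc ∈ (S' : Subgroup C) := t₀.2
  have hidx : (S' : Subgroup C).index = 15 := by
    have := (S' : Subgroup C).card_mul_index
    rw [hS'8, h120] at this
    omega
  have hv : v tc = ⟨tc, htS'⟩ := by
    have h1 : v tc = (⟨tc, htS'⟩ : (S' : Subgroup C)) ^ (S' : Subgroup C).index := by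
      refine (MonoidHom.transfer_eq_pow _ tc fun k g₀ hk => ?_).trans (Subtype.ext (by simp))
      rw [mul_assoc, ← ((show Commute g₀ tc from hcent g₀).pow_right k).eq, inv_mul_cancel_left]
    rw [h1, hidx]
    refine Subtype.ext ?_
    show tc ^ 15 = tc
    rw [← pow_mod_orderOf, htc2, pow_one]
  have hinjK : ∀ c, v c = 1 → c ∈ T → c = 1 := by
    intro c hc hcT
    obtain ⟨i, hi, rfl⟩ : ∃ i < 2, tc ^ i = c := by
      obtain ⟨i, hi⟩ := (IsOfFinOrder.mem_powers_iff_mem_zpowers (isOfFinOrder_of_finite tc)).2 hcT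
      exact ⟨i % 2, Nat.mod_lt _ (by norm_num), by rw [← htc2, pow_mod_orderOf]; exact hi⟩
    interval_cases i
    · rw [pow_zero]
    · rw [pow_one, hv] at hc
      rw [pow_one, show tc = ((⟨tc, htS'⟩ : (S' : Subgroup C)) : C) from rfl, hc]
      rfl
  set π := QuotientGroup.mk' T with hπ
  have hKtop : v.ker.map π = ⊤ := by
    refine ((MonoidHom.normal_ker v).map π (QuotientGroup.mk'_surjective T)).eq_bot_or_eq_top.resolve_left fun h => ?_
    have hker : Function.Injective v := (MonoidHom.ker_eq_bot_iff v).1 ((Subgroup.eq_bot_iff_forall _).2 fun c hc =>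
      hinjK c hc ((QuotientGroup.eq_one_iff c).1 (Subgroup.mem_bot.1 (h ▸ Subgroup.mem_map_of_mem π hc))))
    have := Nat.card_le_card_of_injective v hker
    rw [h120, hS'8] at this
    omega
  have hrange : v.range = Subgroup.zpowers (⟨tc, htS'⟩ : (S' : Subgroup C)) := by
    refine le_antisymm ?_ (Subgroup.zpowers_le.2 ⟨tc, hv⟩)
    rintro _ ⟨c, rfl⟩
    obtain ⟨k, hk, hkc⟩ := hKtop.ge (Subgroup.mem_top (π c))
    obtain ⟨i, hi⟩ := (QuotientGroup.eq (s := T)).1 hkc
    have hi' : tc ^ i = k⁻¹ * c := hi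
    refine ⟨i, ?_⟩
    show (⟨tc, htS'⟩ : (S' : Subgroup C)) ^ i = v c
    rw [← hv, ← map_zpow, hi', map_mul, map_inv, hk, inv_one, one_mul]
  have hr2 : Nat.card v.range = 2 := by
    rw [hrange, Nat.card_zpowers, ← Subgroup.orderOf_coe, htc2]
  haveI : IsCyclic v.range := isCyclic_of_prime_card hr2
  let eZ : v.range ≃* Multiplicative (ZMod 2) :=
    (zmodCyclicMulEquiv (inferInstance : IsCyclic v.range)).symm.trans
      (AddEquiv.toMultiplicative ((ZMod.ringEquivCongr hr2).toAddEquiv))
  let f : C →* v.range × (C ⧸ T) := v.rangeRestrict.prod π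
  have hf : Function.Injective f := by
    refine (MonoidHom.ker_eq_bot_iff f).1 ((Subgroup.eq_bot_iff_forall _).2 fun c hc => ?_)
    have h1 : v.rangeRestrict c = 1 := congrArg Prod.fst hc
    have h2 : π c = 1 := congrArg Prod.snd hc
    exact hinjK c (congrArg Subtype.val h1) ((QuotientGroup.eq_one_iff c).1 h2)
  let ef : C ≃* v.range × (C ⧸ T) := MulEquiv.ofBijective f ((Nat.bijective_iff_injective_and_card f).2
    ⟨hf, by rw [Nat.card_prod, hr2, hQ, h120]⟩)
  exact ⟨ef.trans (eZ.prodCongr eA)⟩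

end CfsgLib.SmallOrders.J175560
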