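import Cfsg.Agent.Lib.SmallOrders.J175560.Perm

/-!
# Simple groups of order `175560`: centralisers of the Sylow subgroups of prime order
-/

namespace CfsgLib.SmallOrders.J175560

open Cfsg CfsgLib CfsgLib.SmallOrders CfsgLib.SmallOrders.Order58520
open scoped Pointwise

set_option autoImplicit false
set_option linter.unusedVariables false
set_option linter.style.haveILetI false
set_option linter.unusedSectionVars false

universe u

variable {G : Type u} [Group G] [Finite G] [IsSimpleGroup G] {p : ℕ} [hp : Fact p.Prime]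

/-- The counts and orders attached to every Sylow subgroup of order `p`. -/
theorem data (hN : Nat.card G = 175560) {m : ℕ} {exc : List (ℕ × ℕ)} (hodd : p ≠ 2)
    (hpm : p * m = 175560) (hnd : ¬ p ∣ m) (hm : 1 < m) (hcheck : degCheck p m exc = true)
    (P : Sylow p G) :
    Nat.card P = p ∧ ∃ n e, (n, e) ∈ exc ∧ Nat.card (Sylow p G) = n ∧
      Nat.card (Subgroup.centralizer ((P : Subgroup G) : Set G)) * (n * e) = 175560 ∧
      Nat.card (Subgroup.normalizer ((P : Subgroup G) : Set G)) * n = 175560 := by
  classical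
  haveI := Fintype.ofFinite G
  obtain ⟨-, P₀, n, e, -, -, hP, hC, hNC, hex⟩ :=
    mem_exceptions (G := G) hodd (hN.trans hpm.symm) hnd hm hcheck
  have hN0 : Nat.card (Subgroup.normalizer ((P₀ : Subgroup G) : Set G)) * n = 175560 := by
    rw [hNC, ← hpm, ← hC]; ring
  have hS := SmallOrder.card_normalizer_mul_card_sylow P₀
  have hn : Nat.card (Sylow p G) = n :=
    Nat.eq_of_mul_eq_mul_left Nat.card_pos (hS.trans (hN.trans hN0.symm))
  refine ⟨?_, n, e, hex, hn, ?_, ?_⟩
  · rw [P.card_eq_multiplicity, ← P₀.card_eq_multiplicity, hP]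
  · rw [card_centralizer_sylow P₀ P, hC, hpm]
  · rw [← hn, ← hN]
    exact SmallOrder.card_normalizer_mul_card_sylow P

/-- The centraliser of a Sylow subgroup of odd prime order has order not divisible by `8`. -/
theorem not_eight_dvd (hN : Nat.card G = 175560) {m : ℕ} (hp35 : p = 3 ∨ p = 5)
    (hpm : p * m = 175560) (P : Sylow p G) :
    ¬ 8 ∣ Nat.card (Subgroup.centralizer ((P : Subgroup G) : Set G)) := by
  classical
  haveI := Fintype.ofFinite G
  have hodd : p ≠ 2 := by omega
  have hnd : ¬ p ∣ m := by rcases hp35 with rfl | rfl <;> omega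
  have hm : 1 < m := by rcases hp35 with rfl | rfl <;> omega
  obtain ⟨-, P₀, n, e, -, -, hP, -, -, -, hed, he2, hmul, -⟩ :=
    exists_data (G := G) hodd (hN.trans hpm.symm) hnd hm
  rw [card_centralizer_sylow P₀ P]
  rintro ⟨c, hc⟩
  obtain ⟨f, rfl⟩ : 2 ∣ e := by
    have := Nat.le_of_dvd (show 0 < p - 1 by omega) hed
    rcases hp35 with rfl | rfl
    · exact ⟨1, by omega⟩
    · interval_cases e
      all_goals norm_num at hed
      all_goals norm_num
  rw [hc, hpm] at hmul
  exact absurd (Dvd.intro (c * (n * f)) (by rw [← hmul]; ring) : 16 ∣ 175560) (by norm_num)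

theorem sylow_of_prime (hN : Nat.card G = 175560) {m : ℕ} (hpm : p * m = 175560) (hnd : ¬ p ∣ m)
    (P : Sylow p G) : Nat.card P = p := by
  have := SmallOrder.card_sylow_eq (k := 1) P (by rw [hN, ← hpm, pow_one]; exact dvd_mul_right p m)
    (by rw [hN, ← hpm, pow_succ, pow_one, Nat.mul_dvd_mul_iff_left hp.out.pos]; exact hnd)
  simpa using this

/-- If a subgroup has one Sylow subgroup for a prime dividing `|G|` once, it normalises it. -/
theorem exists_normalized (hP : ∀ P : Sylow p G, Nat.card P = p) (H : Subgroup G) (hd : p ∣ Nat.card H)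
    (h1 : Nat.card (Sylow p H) = 1) :
    ∃ P : Sylow p G, (P : Subgroup G) ≤ H ∧ H ≤ Subgroup.normalizer ((P : Subgroup G) : Set G) := by
  obtain ⟨R⟩ : Nonempty (Sylow p H) := inferInstance
  haveI : Subsingleton (Sylow p H) := (Nat.card_eq_one_iff_unique.1 h1).1
  have hRn : (R : Subgroup H).Normal := Sylow.normal_of_subsingleton R
  obtain ⟨P, hle⟩ := (R.2.map H.subtype).exists_le_sylow
  have heq : (R : Subgroup H).map H.subtype = (P : Subgroup G) := by
    refine Subgroup.eq_of_le_of_card_ge hle ?_
    rw [show Nat.card (P : Subgroup G) = p from hP P, Subgroup.card_subtype]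
    exact Nat.le_of_dvd Nat.card_pos (R.dvd_card_of_dvd_card hd)
  refine ⟨P, heq ▸ Subgroup.map_subtype_le _, fun g hg => ?_⟩
  rw [← heq]
  refine Subgroup.mem_normalizer_iff.2 fun a => ⟨?_, fun ha => ?_⟩
  · rintro ⟨r, hr, rfl⟩
    exact ⟨_, hRn.conj_mem r hr ⟨g, hg⟩, rfl⟩
  · obtain ⟨r, hr, e⟩ := ha
    refine ⟨_, hRn.conj_mem r hr ⟨g, hg⟩⁻¹, ?_⟩
    simp only [Subgroup.coe_subtype] at e
    simp [Subgroup.coe_subtype, e, mul_assoc]

theorem card_sylow_sub (hP : ∀ P : Sylow p G, Nat.card P = p) (H : Subgroup G) {n : ℕ}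
    (hH : Nat.card H = p * n) : Nat.card (Sylow p H) ∣ n ∧ Nat.card (Sylow p H) % p = 1 := by
  obtain ⟨R⟩ : Nonempty (Sylow p H) := inferInstance
  obtain ⟨P, hle⟩ := (R.2.map H.subtype).exists_le_sylow
  have hR : Nat.card R = p := by
    refine le_antisymm ?_ (Nat.le_of_dvd Nat.card_pos (R.dvd_card_of_dvd_card (hH ▸ dvd_mul_right p n)))
    have := Subgroup.card_le_of_le hle
    rwa [show Nat.card (P : Subgroup G) = p from hP P, Subgroup.card_subtype] at this
  have := SmallOrder.card_sylow_mem_filter R hR hH hp.out.ne_zero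
  rw [Finset.mem_filter, Nat.mem_divisors] at this
  exact ⟨this.1.1, this.2⟩

/-- Commuting primes. -/
theorem dvd_centralizer_symm {q : ℕ} [Fact q.Prime] (P : Sylow p G) (hP : Nat.card P = p)
    (Q : Sylow q G) (hQ : Nat.card Q = q)
    (h : q ∣ Nat.card (Subgroup.centralizer ((P : Subgroup G) : Set G))) :
    p ∣ Nat.card (Subgroup.centralizer ((Q : Subgroup G) : Set G)) := by
  obtain ⟨y, hy⟩ := exists_prime_orderOf_dvd_card' q h
  obtain ⟨x, hx⟩ := exists_prime_orderOf_dvd_card' (G := (P : Subgroup G)) p (by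
    rw [show Nat.card (P : Subgroup G) = p from hP])
  have := dvd_card_of_commute Q hQ (x := (y : G)) (y := (x : G))
    (by rw [Subgroup.orderOf_coe]; exact hy) (Subgroup.mem_centralizer_iff.1 y.2 x x.2).symm
  rwa [Subgroup.orderOf_coe, hx] at this

omit hp in
theorem cent19 (hN : Nat.card G = 175560) [Fact (Nat.Prime 19)] (P : Sylow 19 G) :
    Nat.card (Subgroup.centralizer ((P : Subgroup G) : Set G)) = 57 ∨
      Nat.card (Subgroup.centralizer ((P : Subgroup G) : Set G)) = 19 := by
  obtain ⟨hP, n, e, hex, hn, hC, -⟩ := data hN (m := 9240)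
    (exc := [(20, 2), (20, 6), (77, 2), (77, 6), (210, 2), (1540, 2), (1540, 6)])
    (by norm_num) (by norm_num) (by norm_num) (by norm_num) (by decide +kernel) P
  set c := Nat.card (Subgroup.centralizer ((P : Subgroup G) : Set G)) with hc
  simp only [List.mem_cons, List.not_mem_nil, or_false, Prod.mk.injEq] at hex
  rcases hex with ⟨rfl, rfl⟩ | ⟨rfl, rfl⟩ | ⟨rfl, rfl⟩ | ⟨rfl, rfl⟩ | ⟨rfl, rfl⟩ | ⟨rfl, rfl⟩ | ⟨rfl, rfl⟩
  · have h := card_centralizer_dvd P hP (k := 1) (by norm_num) hn
    rw [← hc, show c = 4389 by omega] at h; norm_num [Nat.factorial] at h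
  · have h := card_centralizer_dvd P hP (k := 1) (by norm_num) hn
    rw [← hc, show c = 1463 by omega] at h; norm_num [Nat.factorial] at h
  · have h := card_centralizer_dvd P hP (k := 4) (by norm_num) hn
    rw [← hc, show c = 1140 by omega] at h; norm_num [Nat.factorial] at h
  · have h := card_centralizer_dvd P hP (k := 4) (by norm_num) hn
    rw [← hc, show c = 380 by omega] at h; norm_num [Nat.factorial] at h
  · exact (false_of_210 P hP hn (show c = 418 by omega)).elim
  · left; omega
  · right; omega

omit hp in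
theorem not_seven_dvd_normalizer (hN : Nat.card G = 175560) [Fact (Nat.Prime 11)] (P : Sylow 11 G) :
    ¬ 7 ∣ Nat.card (Subgroup.normalizer ((P : Subgroup G) : Set G)) := by
  obtain ⟨hP, n, e, hex, hn, hC, hNn⟩ := data hN (m := 15960)
    (exc := [(12, 2), (12, 5), (12, 10), (56, 5), (133, 2), (133, 5), (133, 10), (210, 2),
      (1596, 2), (1596, 5), (1596, 10)])
    (by norm_num) (by norm_num) (by norm_num) (by norm_num) (by decide +kernel) P
  set c := Nat.card (Subgroup.centralizer ((P : Subgroup G) : Set G)) with hc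
  set N := Nat.card (Subgroup.normalizer ((P : Subgroup G) : Set G)) with hNdef
  simp only [List.mem_cons, List.not_mem_nil, or_false, Prod.mk.injEq] at hex
  have k12 : n = 12 → False := by
    rintro rfl
    have h := card_centralizer_dvd P hP (k := 1) (by norm_num) hn
    rw [← hc] at h
    norm_num at h
    have := Nat.le_of_dvd (by norm_num) h
    have he : e ≤ 10 := by omega
    nlinarith
  rcases hex with h | h | h | h | h | h | h | h | h | h | h <;> obtain ⟨rfl, rfl⟩ := h <;>
    first | exact (k12 rfl).elim | omega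

omit hp in
theorem cent7 (hN : Nat.card G = 175560) [Fact (Nat.Prime 7)] (P : Sylow 7 G) :
    (¬ 2 ∣ Nat.card (Subgroup.centralizer ((P : Subgroup G) : Set G))) ∨
      (Nat.card (Subgroup.centralizer ((P : Subgroup G) : Set G)) = 14 ∧
        Nat.card (Subgroup.normalizer ((P : Subgroup G) : Set G)) = 42) := by
  haveI : Fact (Nat.Prime 19) := ⟨by norm_num⟩
  haveI : Fact (Nat.Prime 11) := ⟨by norm_num⟩
  haveI : Fact (Nat.Prime 5) := ⟨by norm_num⟩
  obtain ⟨hP, n, e, hex, hn, hC, hNn⟩ := data hN (m := 25080)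
    (exc := [(8, 3), (15, 2), (22, 2), (22, 3), (22, 6), (57, 2), (190, 2), (190, 3), (190, 6),
      (330, 2), (1254, 2), (4180, 2), (4180, 3), (4180, 6)])
    (by norm_num) (by norm_num) (by norm_num) (by norm_num) (by decide +kernel) P
  set c := Nat.card (Subgroup.centralizer ((P : Subgroup G) : Set G)) with hc
  set N := Nat.card (Subgroup.normalizer ((P : Subgroup G) : Set G)) with hNdef
  obtain ⟨Q19⟩ : Nonempty (Sylow 19 G) := inferInstance
  obtain ⟨Q11⟩ : Nonempty (Sylow 11 G) := inferInstance
  obtain ⟨Q5⟩ : Nonempty (Sylow 5 G) := inferInstance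
  have h19 : ¬ 19 ∣ c := fun h => by
    have := dvd_centralizer_symm P hP Q19 (sylow_of_prime hN (m := 9240) (by norm_num) (by norm_num) Q19) h
    rcases cent19 hN Q19 with e' | e' <;> rw [e'] at this <;> norm_num at this
  have h11 : ¬ 11 ∣ c := fun h => by
    have h7 := dvd_centralizer_symm P hP Q11 (sylow_of_prime hN (m := 15960) (by norm_num) (by norm_num) Q11) h
    exact not_seven_dvd_normalizer hN Q11
      (h7.trans (Subgroup.card_dvd_of_le (Subgroup.centralizer_le_normalizer _)))
  simp only [List.mem_cons, List.not_mem_nil, or_false, Prod.mk.injEq] at hex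
  rcases hex with h | h | h | h | h | h | h | h | h | h | h | h | h | h <;> obtain ⟨rfl, rfl⟩ := h
  · have h := card_centralizer_dvd P hP (k := 1) (by norm_num) hn
    rw [← hc, show c = 7315 by omega] at h; norm_num [Nat.factorial] at h
  · exact (h19 (by omega)).elim
  · exact (h19 (by omega)).elim
  · exact (h19 (by omega)).elim
  · exact (h19 (by omega)).elim
  · exact (h11 (by omega)).elim
  · exact (h11 (by omega)).elim
  · exact (h11 (by omega)).elim
  · exact (h11 (by omega)).elim
  · exact (h19 (by omega)).elim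
  · exfalso
    have hc70 : c = 70 := by omega
    have hN140 : N = 140 := by omega
    have h7 := dvd_centralizer_symm P hP Q5 (sylow_of_prime hN (m := 35112) (by norm_num) (by norm_num) Q5)
      (by rw [← hc, hc70]; norm_num)
    obtain ⟨hP5, n5, e5, hex5, hn5, hC5, -⟩ := data hN (m := 35112)
      (exc := [(6, 2), (6, 4), (11, 2), (11, 4), (21, 2), (21, 4), (66, 2), (66, 4), (76, 2), (231, 2),
        (231, 4), (266, 2), (266, 4), (836, 2), (1596, 2), (2926, 2), (2926, 4), (17556, 2)])
      (by norm_num) (by norm_num) (by norm_num) (by norm_num) (by decide +kernel) Q5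
    set C5 := Subgroup.centralizer ((Q5 : Subgroup G) : Set G) with hC5def
    have k1 : n5 = 6 → False := by
      rintro rfl
      have h := card_centralizer_dvd Q5 hP5 (k := 1) (by norm_num) hn5
      rw [← hC5def] at h
      have := h7.trans h
      norm_num at this
    have k2 : n5 = 11 → False := by
      rintro rfl
      have h := card_centralizer_dvd Q5 hP5 (k := 2) (by norm_num) hn5
      rw [← hC5def] at h
      have := h7.trans h
      norm_num [Nat.factorial] at this
    have h519 : ¬ 19 ∣ Nat.card C5 := fun h => by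
      have := dvd_centralizer_symm Q5 hP5 Q19 (sylow_of_prime hN (m := 9240) (by norm_num) (by norm_num) Q19) h
      rcases cent19 hN Q19 with e' | e' <;> rw [e'] at this <;> norm_num at this
    have hP7 : ∀ R : Sylow 7 G, Nat.card R = 7 := sylow_of_prime hN (m := 25080) (by norm_num) (by norm_num)
    have hP11 : ∀ R : Sylow 11 G, Nat.card R = 11 := sylow_of_prime hN (m := 15960) (by norm_num) (by norm_num)
    simp only [List.mem_cons, List.not_mem_nil, or_false, Prod.mk.injEq] at hex5
    have hcases : Nat.card C5 = 1155 ∨ Nat.card C5 = 105 := by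
      rcases hex5 with h | h | h | h | h | h | h | h | h | h | h | h | h | h | h | h | h | h <;>
        obtain ⟨rfl, rfl⟩ := h <;>
        first | exact (k1 rfl).elim | exact (k2 rfl).elim | omega
    rcases hcases with h | h
    · obtain ⟨hd, hmod⟩ := card_sylow_sub hP11 C5 (n := 105) (by rw [h])
      have h1 : Nat.card (Sylow 11 C5) = 1 :=
        (show ∀ d < 106, d ∣ 105 → d % 11 = 1 → d = 1 by decide +kernel) _
          (Nat.lt_succ_of_le (Nat.le_of_dvd (by norm_num) hd)) hd hmod
      obtain ⟨R, -, hR⟩ := exists_normalized hP11 C5 (by rw [h]; norm_num) h1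
      exact not_seven_dvd_normalizer hN R (h7.trans (Subgroup.card_dvd_of_le hR))
    · obtain ⟨R⟩ : Nonempty (Sylow 7 C5) := inferInstance
      obtain ⟨hd, hmod⟩ := card_sylow_sub hP7 C5 (n := 15) (by rw [h])
      have hmul := SmallOrder.card_normalizer_mul_card_sylow R
      have h5N : 5 ∣ Nat.card (Subgroup.normalizer (R : Set C5)) := by
        have hle : (Q5 : Subgroup G).subgroupOf C5 ≤ Subgroup.normalizer ((R : Subgroup C5) : Set C5) :=
          fun a ha => Subgroup.centralizer_le_normalizer _ (Subgroup.mem_centralizer_iff.2 fun b hb =>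
            Subtype.ext ((Subgroup.mem_centralizer_iff.1 b.2) (a : G) ha).symm)
        have hQC : (Q5 : Subgroup G) ≤ C5 := by
          haveI : IsCyclic (Q5 : Subgroup G) := isCyclic_of_prime_card hP5
          exact (Q5 : Subgroup G).le_centralizer
        have := Subgroup.card_dvd_of_le hle
        rwa [Nat.card_congr (Subgroup.subgroupOfEquivOfLe hQC).toEquiv,
          show Nat.card (Q5 : Subgroup G) = 5 from hP5] at this
      have h1 : Nat.card (Sylow 7 C5) = 1 := by
        rcases (show ∀ d < 16, d ∣ 15 → d % 7 = 1 → d = 1 ∨ d = 15 by decide +kernel) _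
          (Nat.lt_succ_of_le (Nat.le_of_dvd (by norm_num) hd)) hd hmod with e' | e'
        · exact e'
        · exfalso
          rw [e'] at hmul
          have hN7 := Nat.eq_of_mul_eq_mul_right (by norm_num) (hmul.trans (h.trans (show 105 = 7 * 15 by norm_num)))
          rw [hN7] at h5N
          norm_num at h5N
      obtain ⟨R', -, hR'⟩ := exists_normalized hP7 C5 (by rw [h]; norm_num) h1
      obtain ⟨-, n', e', -, hn', -, hN'⟩ := data hN (m := 25080)
        (exc := [(8, 3), (15, 2), (22, 2), (22, 3), (22, 6), (57, 2), (190, 2), (190, 3), (190, 6),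
          (330, 2), (1254, 2), (4180, 2), (4180, 3), (4180, 6)])
        (by norm_num) (by norm_num) (by norm_num) (by norm_num) (by decide +kernel) R'
      have := Subgroup.card_dvd_of_le hR'
      rw [hn] at hn'
      rw [h, show Nat.card (Subgroup.normalizer ((R' : Subgroup G) : Set G)) = 140 by
        subst hn'; omega] at this
      norm_num at this
  · left; omega
  · right; constructor <;> omega
  · left; omega

end CfsgLib.SmallOrders.J175560
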