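import Cfsg.Agent.Lib.SmallOrders.Order58520

/-!
# The action of a simple group on its Sylow subgroups of prime order
-/

namespace CfsgLib.SmallOrders.J175560

open Cfsg CfsgLib Equiv
open scoped Pointwise

set_option autoImplicit false
set_option linter.unusedVariables false
set_option linter.style.haveILetI false
set_option linter.unusedSectionVars false

universe u

variable {G : Type u} [Group G] [Finite G] [IsSimpleGroup G] {p : ℕ} [hp : Fact p.Prime]

theorem index_ne_two (h2 : 2 < Nat.card G) (H : Subgroup G) : H.index ≠ 2 := by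
  intro h
  rcases (Subgroup.normal_of_index_eq_two h).eq_bot_or_eq_top with rfl | rfl
  · rw [Subgroup.index_bot] at h; omega
  · rw [Subgroup.index_top] at h; omega

/-- A Sylow subgroup of prime order fixes only itself. -/
theorem eq_of_smul_eq {P Q : Sylow p G} (hP : Nat.card P = p) {x : G} (hx : x ∈ (P : Subgroup G))
    (hx1 : x ≠ 1) (h : x • Q = Q) : Q = P := by
  have hxN : x ∈ Subgroup.normalizer ((Q : Subgroup G) : Set G) := Sylow.smul_eq_iff_mem_normalizer.1 h
  have hxQ : x ∈ (Q : Subgroup G) := by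
    have h' : x ∈ (P : Subgroup G) ⊓ Subgroup.normalizer ((Q : Subgroup G) : Set G) := ⟨hx, hxN⟩
    exact ((IsPGroup.inf_normalizer_sylow P.2 Q).le h').2
  have hd : orderOf x = p := ((Nat.dvd_prime hp.out).1 (by
    have := Subgroup.orderOf_dvd_natCard (P : Subgroup G) hx
    rwa [show Nat.card (P : Subgroup G) = p from hP] at this)).resolve_left
      fun e => hx1 (orderOf_eq_one_iff.1 e)
  have hz : Subgroup.zpowers x = (P : Subgroup G) :=
    Subgroup.eq_of_le_of_card_ge (Subgroup.zpowers_le.2 hx) (by
      rw [Nat.card_zpowers, hd, show Nat.card (P : Subgroup G) = p from hP])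
  exact Sylow.ext (P.3 Q.2 (hz ▸ Subgroup.zpowers_le.2 hxQ))

theorem act_injective (hn : Nat.card (Sylow p G) ≠ 1) :
    Function.Injective (MulAction.toPermHom G (Sylow p G)) := by
  rw [← MonoidHom.ker_eq_bot_iff]
  refine (MonoidHom.normal_ker _).eq_bot_or_eq_top.resolve_right fun h => hn ?_
  obtain ⟨P⟩ : Nonempty (Sylow p G) := inferInstance
  refine Nat.card_eq_one_iff_unique.2 ⟨⟨fun A B => ?_⟩, ⟨P⟩⟩
  obtain ⟨g, rfl⟩ := MulAction.exists_smul_eq G A B
  exact (Equiv.ext_iff.1 (show MulAction.toPermHom G (Sylow p G) g = 1 from h.ge (Subgroup.mem_top g)) A).symm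

/-- The centraliser of a Sylow subgroup of prime order `p`, there being `k p + 1` of them, has order
dividing `k! p^k`. -/
theorem card_centralizer_dvd (P : Sylow p G) (hP : Nat.card P = p) {k : ℕ} (hk0 : k ≠ 0)
    (hk : Nat.card (Sylow p G) = k * p + 1) :
    Nat.card (Subgroup.centralizer ((P : Subgroup G) : Set G)) ∣ k.factorial * p ^ k := by
  classical
  haveI := Fintype.ofFinite (Sylow p G)
  have hn1 : Nat.card (Sylow p G) ≠ 1 := by
    rw [hk]; have := hp.out.pos; have : 0 < k * p := Nat.mul_pos (by omega) this; omega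
  set φ := MulAction.toPermHom G (Sylow p G) with hφ
  have hinj : Function.Injective φ := act_injective hn1
  obtain ⟨x, hx⟩ := exists_prime_orderOf_dvd_card' (G := (P : Subgroup G)) p (by
    rw [show Nat.card (P : Subgroup G) = p from hP])
  have hx1 : (x : G) ≠ 1 := fun e => hp.out.ne_one (by
    rw [← hx, show x = 1 from Subtype.ext e, orderOf_one])
  set σ := φ (x : G) with hσ
  have hord : orderOf σ = p := by
    rw [hσ, orderOf_injective φ hinj, Subgroup.orderOf_coe, hx]
  have hsupp : σ.support = Finset.univ.erase P := by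
    ext Q
    rw [Equiv.Perm.mem_support, Finset.mem_erase]
    constructor
    · intro h
      refine ⟨fun e => h ?_, Finset.mem_univ _⟩
      subst e
      exact Sylow.smul_eq_iff_mem_normalizer.2 (Subgroup.le_normalizer x.2)
    · exact fun h e => h.1 (eq_of_smul_eq hP x.2 hx1 e)
  obtain ⟨j, hj⟩ := Equiv.Perm.cycleType_prime_order (σ := σ) (by rw [hord]; exact hp.out)
  rw [hord] at hj
  have hsum := σ.sum_cycleType
  rw [hj, Multiset.sum_replicate, smul_eq_mul, hsupp, Finset.card_erase_of_mem (Finset.mem_univ _),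
    Finset.card_univ, ← Nat.card_eq_fintype_card, hk, Nat.add_sub_cancel] at hsum
  have hjk : j + 1 = k := Nat.eq_of_mul_eq_mul_right hp.out.pos hsum
  have hcard : Nat.card (Subgroup.centralizer ({σ} : Set (Perm (Sylow p G)))) = k.factorial * p ^ k := by
    rw [Equiv.Perm.nat_card_centralizer, hj, hjk, Multiset.sum_replicate, smul_eq_mul,
      ← Nat.card_eq_fintype_card, hk, Nat.add_sub_cancel_left, Nat.factorial_one, one_mul,
      Multiset.prod_replicate, Multiset.toFinset_replicate, if_neg hk0, Finset.prod_singleton,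
      Multiset.count_replicate_self, mul_comm]
  rw [← hcard]
  refine (Nat.card_congr (Subgroup.equivMapOfInjective _ φ hinj).toEquiv).dvd.trans (Subgroup.card_dvd_of_le ?_)
  rintro _ ⟨c, hc, rfl⟩
  rw [Subgroup.mem_centralizer_singleton_iff, hσ, ← map_mul, ← map_mul,
    Subgroup.mem_centralizer_iff.1 hc x x.2]

/-- No simple group has `210` Sylow `19`-subgroups of order `19` with centralisers of order `418`. -/
theorem false_of_210 [Fact (Nat.Prime 19)] (P : Sylow 19 G) (hP : Nat.card P = 19)
    (hn : Nat.card (Sylow 19 G) = 210)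
    (hC : Nat.card (Subgroup.centralizer ((P : Subgroup G) : Set G)) = 418) : False := by
  classical
  haveI := Fintype.ofFinite (Sylow 19 G)
  haveI : Fact (Nat.Prime 11) := ⟨by norm_num⟩
  haveI : Fact (Nat.Prime 2) := ⟨Nat.prime_two⟩
  set C := Subgroup.centralizer ((P : Subgroup G) : Set G) with hCdef
  obtain ⟨y, hy⟩ := exists_prime_orderOf_dvd_card' (G := C) 11 (by rw [hC]; norm_num)
  obtain ⟨z, hz⟩ := exists_prime_orderOf_dvd_card' (G := C) 2 (by rw [hC]; norm_num)
  obtain ⟨x, hx⟩ := exists_prime_orderOf_dvd_card' (G := (P : Subgroup G)) 19 (by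
    rw [show Nat.card (P : Subgroup G) = 19 from hP])
  -- the Sylow subgroup for eleven of the centraliser is normal
  have hR : Nat.card (Subgroup.zpowers y) = 11 ^ (Nat.card C).factorization 11 := by
    obtain ⟨R⟩ : Nonempty (Sylow 11 C) := inferInstance
    rw [Nat.card_zpowers, hy, ← R.card_eq_multiplicity,
      SmallOrder.card_sylow_eq (k := 1) R (by rw [hC]; norm_num) (by rw [hC]; norm_num)]
    norm_num
  set R : Sylow 11 C := Sylow.ofCard (Subgroup.zpowers y) hR with hRdef
  have hRn : (R : Subgroup C).Normal := by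
    have hR11 : Nat.card R = 11 := by
      rw [SmallOrder.card_sylow_eq (k := 1) R (by rw [hC]; norm_num) (by rw [hC]; norm_num)]
      norm_num
    have hm := SmallOrder.card_sylow_mem_filter R hR11 (n := 38) (by rw [hC]) (by norm_num)
    rw [show (Nat.divisors 38).filter (fun d => d % 11 = 1) = {1} by decide +kernel,
      Finset.mem_singleton] at hm
    haveI : Subsingleton (Sylow 11 C) := (Nat.card_eq_one_iff_unique.1 hm).1
    exact Sylow.normal_of_subsingleton R
  have hzy : ((z * y * z⁻¹ : C)) ∈ Subgroup.zpowers y := hRn.conj_mem y (Subgroup.mem_zpowers y) z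
  obtain ⟨i, hi⟩ := (IsOfFinOrder.mem_powers_iff_mem_zpowers (isOfFinOrder_of_finite y)).2 hzy
  simp only at hi
  -- translate into permutations
  set φ := MulAction.toPermHom G (Sylow 19 G) with hφ
  have hinj : Function.Injective φ := act_injective (by rw [hn]; norm_num)
  set σ := φ (x : G) with hσ
  set τ := φ ((y : C) : G) with hτ
  set ζ := φ ((z : C) : G) with hζ
  have hx1 : (x : G) ≠ 1 := fun e => by
    rw [show x = 1 from Subtype.ext e, orderOf_one] at hx; norm_num at hx
  have hσo : orderOf σ = 19 := by rw [hσ, orderOf_injective φ hinj, Subgroup.orderOf_coe, hx]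
  have hτo : orderOf τ = 11 := by rw [hτ, orderOf_injective φ hinj, Subgroup.orderOf_coe, hy]
  have hζo : orderOf ζ = 2 := by rw [hζ, orderOf_injective φ hinj, Subgroup.orderOf_coe, hz]
  have hcomm : ∀ c : C, Commute σ (φ (c : G)) := fun c => by
    rw [hσ, Commute, SemiconjBy, ← map_mul, ← map_mul, Subgroup.mem_centralizer_iff.1 c.2 x x.2]
  have hζτ : ζ * τ = τ ^ i * ζ := by
    rw [hζ, hτ, ← map_pow, ← map_mul, ← map_mul]
    congr 1
    have := congrArg Subtype.val hi
    simp only [Subgroup.coe_mul, InvMemClass.coe_inv, SubmonoidClass.coe_pow] at this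
    rw [this, inv_mul_cancel_right]
  have hσfix : ∀ a : ℕ, ∀ Q, (σ ^ a) Q = Q → Q = P ∨ σ ^ a = 1 := by
    intro a Q h
    by_cases h1 : (x : G) ^ a = 1
    · right; rw [hσ, ← map_pow, h1, map_one]
    · left
      refine eq_of_smul_eq hP (pow_mem x.2 a) h1 ?_
      rw [hσ, ← map_pow] at h
      exact h
  have hfixP : ∀ g : G, g ∈ C → φ g P = P := fun g hg =>
    Sylow.smul_eq_iff_mem_normalizer.2 (Subgroup.centralizer_le_normalizer _ hg)
  have hσP : ∀ a : ℕ, (σ ^ a) P = P := fun a => by
    rw [hσ, ← map_pow]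
    exact Sylow.smul_eq_iff_mem_normalizer.2 (Subgroup.le_normalizer (pow_mem x.2 a))
  -- τ fixes only P
  have hτfix : ∀ b : ℕ, ∀ Q, (τ ^ b) Q = Q → Q = P ∨ τ ^ b = 1 := by
    intro b Q h
    by_contra hcon
    push Not at hcon
    obtain ⟨hQP, hb1⟩ := hcon
    set υ := τ ^ b with hυ
    have hυo : orderOf υ = 11 := ((Nat.dvd_prime (by norm_num : Nat.Prime 11)).1
      (hτo ▸ orderOf_pow_dvd b)).resolve_left fun e => hb1 (orderOf_eq_one_iff.1 e)
    have hsq : ∀ a : ℕ, (σ ^ a) Q ∈ υ.supportᶜ := by
      intro a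
      rw [Finset.mem_compl, Equiv.Perm.notMem_support]
      have hc : Commute (σ ^ a) υ := by rw [hυ, hτ]; exact ((hcomm y).pow_left a).pow_right b
      rw [← Equiv.Perm.mul_apply, ← hc.eq, Equiv.Perm.mul_apply, h]
    have hPm : P ∈ υ.supportᶜ := by
      rw [Finset.mem_compl, Equiv.Perm.notMem_support, hυ, hτ, ← map_pow]
      exact hfixP _ (pow_mem y.2 b)
    -- the support is a union of orbits of σ
    obtain ⟨j, hj⟩ := Equiv.Perm.cycleType_prime_order (σ := υ) (by rw [hυo]; norm_num)
    have hsum := υ.sum_cycleType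
    rw [hυo] at hj
    rw [hj, Multiset.sum_replicate, smul_eq_mul] at hsum
    -- count the orbits
    have hdvd : 19 ∣ υ.support.card := by
      haveI : Fact (Nat.Prime 19) := inferInstance
      have hinv : ∀ R, R ∈ υ.support ↔ σ R ∈ υ.support := fun R => by
        have hc : Commute σ υ := by rw [hυ, hτ]; exact (hcomm y).pow_right b
        rw [Equiv.Perm.mem_support, Equiv.Perm.mem_support]
        refine not_congr ⟨fun e => ?_, fun e => ?_⟩
        · rw [← Equiv.Perm.mul_apply, ← hc.eq, Equiv.Perm.mul_apply, e]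
        · rw [← Equiv.Perm.mul_apply, ← hc.eq, Equiv.Perm.mul_apply] at e
          exact σ.injective e
      set s : Equiv.Perm {R // R ∈ υ.support} := σ.subtypePerm (fun R => (hinv R).symm) with hs
      have hso : s ^ 19 = 1 := by
        rw [hs, Equiv.Perm.subtypePerm_pow]
        refine Equiv.ext fun R => Subtype.ext ?_
        show (σ ^ 19) R.1 = R.1
        have h19 : σ ^ 19 = 1 := by
          have h := pow_orderOf_eq_one σ
          rwa [hσo] at h
        rw [h19]
        rfl
      have hnofix : s.supportᶜ = ∅ := by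
        rw [Finset.eq_empty_iff_forall_notMem]
        intro R hR
        rw [Finset.mem_compl, Equiv.Perm.notMem_support] at hR
        have hR' : σ R.1 = R.1 := congrArg Subtype.val hR
        rcases hσfix 1 R.1 (by rw [pow_one]; exact hR') with e | e
        · exact (Finset.mem_compl.1 hPm) (e ▸ R.2)
        · rw [pow_one] at e; rw [e, orderOf_one] at hσo; norm_num at hσo
      have h19 := Equiv.Perm.card_compl_support_modEq (p := 19) (n := 1) (σ := s) (by rw [pow_one]; exact hso)
      rw [hnofix, Finset.card_empty, Fintype.card_coe] at h19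
      exact Nat.modEq_zero_iff_dvd.1 h19.symm
    have hle : υ.support.card + 2 ≤ 210 := by
      have h2 : ({P, Q} : Finset (Sylow 19 G)) ⊆ υ.supportᶜ := fun R hR => by
        rcases Finset.mem_insert.1 hR with rfl | hR
        · exact hPm
        · rw [Finset.mem_singleton.1 hR]; simpa using hsq 0
      have h3 := Finset.card_le_card h2
      rw [Finset.card_pair (Ne.symm hQP), Finset.card_compl, ← Nat.card_eq_fintype_card, hn] at h3
      omega
    omega
  -- the regular orbit
  have hreg : ∀ Q, Q ≠ P → ∀ R, R ≠ P → ∃ a < 19, ∃ b < 11, (σ ^ a * τ ^ b) Q = R := by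
    intro Q hQ R hR
    have himg : ∀ a b : ℕ, (σ ^ a * τ ^ b) Q ≠ P := fun a b e => by
      apply hQ
      apply (σ ^ a * τ ^ b).injective
      rw [e, Equiv.Perm.mul_apply, show (τ ^ b) P = P by
        rw [hτ, ← map_pow]; exact hfixP _ (pow_mem y.2 b), hσP]
    have hcard : ((Finset.range 19 ×ˢ Finset.range 11).image fun ab => (σ ^ ab.1 * τ ^ ab.2) Q).card = 209 := by
      rw [Finset.card_image_of_injOn, Finset.card_product, Finset.card_range, Finset.card_range]
      rintro ⟨a, b⟩ hab ⟨a', b'⟩ hab' e
      simp only [Finset.coe_product, Set.mem_prod, Finset.coe_range, Set.mem_Iio] at hab hab'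
      simp only at e
      have hσc : Commute σ τ := hτ ▸ hcomm y
      have h19 : σ ^ 19 = 1 := by
        have h := pow_orderOf_eq_one σ
        rwa [hσo] at h
      have h11 : τ ^ 11 = 1 := by
        have h := pow_orderOf_eq_one τ
        rwa [hτo] at h
      set A := a + 19 - a' with hA
      set B := b + 11 - b' with hB
      have huQ : (σ ^ A * τ ^ B) Q = Q := by
        apply (σ ^ a' * τ ^ b').injective
        rw [← Equiv.Perm.mul_apply, mul_assoc, ← mul_assoc (τ ^ b'), (hσc.symm.pow_pow b' A).eq,
          mul_assoc, ← pow_add, ← mul_assoc, ← pow_add, show a' + A = a + 19 by omega,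
          show b' + B = b + 11 by omega, pow_add σ, h19, mul_one, pow_add τ, h11, mul_one, e]
      have hB0 : 11 ∣ B * 19 := by
        have h := Equiv.Perm.pow_apply_eq_self_of_apply_eq_self huQ 19
        rw [(hσc.pow_pow A B).mul_pow, ← pow_mul, ← pow_mul, mul_comm A, pow_mul, h19, one_pow,
          one_mul] at h
        exact hτo ▸ orderOf_dvd_of_pow_eq_one ((hτfix (B * 19) Q h).resolve_left hQ)
      have hb' : b = b' := by omega
      subst hb'
      rw [show B = 11 by omega, h11, mul_one] at huQ
      have hA0 : 19 ∣ A := hσo ▸ orderOf_dvd_of_pow_eq_one ((hσfix A Q huQ).resolve_left hQ)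
      have ha' : a = a' := by omega
      rw [ha']
    have hsub : ((Finset.range 19 ×ˢ Finset.range 11).image fun ab => (σ ^ ab.1 * τ ^ ab.2) Q) =
        Finset.univ.erase P := by
      refine Finset.eq_of_subset_of_card_le (fun R' hR' => ?_) ?_
      · obtain ⟨ab, -, rfl⟩ := Finset.mem_image.1 hR'
        exact Finset.mem_erase.2 ⟨himg _ _, Finset.mem_univ _⟩
      · rw [hcard, Finset.card_erase_of_mem (Finset.mem_univ _), Finset.card_univ,
          ← Nat.card_eq_fintype_card, hn]
    have := hsub.ge (Finset.mem_erase.2 ⟨hR, Finset.mem_univ R⟩)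
    obtain ⟨⟨a, b⟩, hab, rfl⟩ := Finset.mem_image.1 this
    simp only [Finset.mem_product, Finset.mem_range] at hab
    exact ⟨a, hab.1, b, hab.2, rfl⟩
  -- an involution of the centraliser
  obtain ⟨j, hj⟩ := Equiv.Perm.cycleType_prime_order (σ := ζ) (by rw [hζo]; exact Nat.prime_two)
  rw [hζo] at hj
  have hsum := ζ.sum_cycleType
  rw [hj, Multiset.sum_replicate, smul_eq_mul] at hsum
  have hPz : ζ P = P := hζ ▸ hfixP _ z.2
  obtain ⟨Q, hQ, hQz⟩ : ∃ Q, Q ≠ P ∧ ζ Q = Q := by
    by_contra hcon
    push Not at hcon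
    have : ζ.support = Finset.univ.erase P := by
      ext R
      rw [Equiv.Perm.mem_support, Finset.mem_erase]
      exact ⟨fun h => ⟨fun e => h (e ▸ hPz), Finset.mem_univ _⟩, fun h => hcon R h.1⟩
    rw [this, Finset.card_erase_of_mem (Finset.mem_univ _), Finset.card_univ,
      ← Nat.card_eq_fintype_card, hn] at hsum
    omega
  have hζσ : ∀ a : ℕ, ζ * σ ^ a = σ ^ a * ζ := fun a => hζ ▸ ((hcomm z).pow_left a).symm.eq
  have hζτb : ∀ b : ℕ, ζ * τ ^ b = τ ^ (i * b) * ζ := by
    intro b
    induction b with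
    | zero => simp
    | succ b ih => rw [pow_succ, ← mul_assoc, ih, mul_assoc, hζτ, ← mul_assoc, ← pow_add, Nat.mul_succ]
  have hmove : ∀ a b : ℕ, ζ ((σ ^ a * τ ^ b) Q) = (σ ^ a * τ ^ (i * b)) Q := by
    intro a b
    rw [← Equiv.Perm.mul_apply, ← mul_assoc, hζσ, mul_assoc, hζτb, ← mul_assoc,
      Equiv.Perm.mul_apply (σ ^ a * τ ^ (i * b)) ζ, hQz]
  by_cases hi1 : i % 11 = 1
  · -- the involution would fix everything
    have hall : ζ = 1 := by
      refine Equiv.ext fun R => ?_
      by_cases hR : R = P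
      · rw [hR]; exact hPz
      · obtain ⟨a, -, b, -, rfl⟩ := hreg Q hQ R hR
        rw [hmove, show τ ^ (i * b) = τ ^ b by
          rw [← pow_mod_orderOf, hτo, Nat.mul_mod, hi1, one_mul, Nat.mod_mod, ← hτo, pow_mod_orderOf]]
        rfl
    rw [hall, orderOf_one] at hζo
    norm_num at hζo
  have hfix : ζ.supportᶜ = insert P ((Finset.range 19).image fun a => (σ ^ a) Q) := by
    ext R
    rw [Finset.mem_compl, Equiv.Perm.notMem_support, Finset.mem_insert, Finset.mem_image]
    constructor
    · intro hR
      refine or_iff_not_imp_left.2 fun hRP => ?_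
      obtain ⟨a, ha, b, hb, rfl⟩ := hreg Q hQ R hRP
      rw [hmove, Equiv.Perm.mul_apply, Equiv.Perm.mul_apply] at hR
      have h1 : (τ ^ (i * b)) Q = (τ ^ b) Q := (σ ^ a).injective hR
      refine ⟨a, Finset.mem_range.2 ha, ?_⟩
      obtain ⟨c, hc⟩ : ∃ c, i * b + 11 * b = b + c := ⟨i * b + 10 * b, by omega⟩
      have h2 : (τ ^ c) Q = Q := by
        apply (τ ^ b).injective
        rw [← Equiv.Perm.mul_apply, ← pow_add, ← hc, pow_add, pow_mul τ 11, ← hτo, pow_orderOf_eq_one,
          one_pow, mul_one, h1]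
      have h3 := orderOf_dvd_of_pow_eq_one ((hτfix c Q h2).resolve_left hQ)
      rw [hτo] at h3
      have hb0 : b = 0 := by
        have hib : 11 ∣ (i + 10) * b := by
          rw [Nat.add_mul]
          have : c = i * b + 10 * b := by omega
          rwa [← this]
        rcases (Nat.Prime.dvd_mul (by norm_num : Nat.Prime 11)).1 hib with h | h <;> omega
      rw [hb0, pow_zero, mul_one]
    · rintro (rfl | ⟨a, -, rfl⟩)
      · exact hPz
      · have := hmove a 0
        simpa using this
  have hfc : ζ.supportᶜ.card = 20 := by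
    rw [hfix, Finset.card_insert_of_notMem, Finset.card_image_of_injOn, Finset.card_range]
    · intro a ha a' ha' e
      simp only [Finset.coe_range, Set.mem_Iio] at ha ha'
      simp only at e
      rcases le_total a a' with hle | hle
      all_goals
        obtain ⟨d, rfl⟩ := Nat.exists_eq_add_of_le hle
        rw [pow_add, Equiv.Perm.mul_apply] at e
      · have := orderOf_dvd_of_pow_eq_one ((hσfix d Q ((σ ^ a).injective e).symm).resolve_left hQ)
        rw [hσo] at this; omega
      · have := orderOf_dvd_of_pow_eq_one ((hσfix d Q ((σ ^ a').injective e)).resolve_left hQ)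
        rw [hσo] at this; omega
    · intro hc
      obtain ⟨a, -, ha⟩ := Finset.mem_image.1 hc
      exact hQ ((σ ^ a).injective (ha.trans (hσP a).symm))
  rw [Finset.card_compl, ← Nat.card_eq_fintype_card, hn] at hfc
  have hj94 : j = 94 := by
    have := Finset.card_le_univ ζ.support
    rw [← Nat.card_eq_fintype_card, hn] at this
    omega
  have hsign : Equiv.Perm.sign ζ = -1 := by
    rw [Equiv.Perm.sign_of_cycleType, hj, hj94, Multiset.sum_replicate, Multiset.card_replicate]
    rw [show (94 + 1) • 2 + (94 + 1) = 2 * 142 + 1 by norm_num, pow_succ, pow_mul]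
    simp
  have h1 := index_ne_two (G := G) (lt_of_lt_of_le (by norm_num : 2 < 418)
    (hC ▸ Subgroup.card_le_card_group C)) ((Equiv.Perm.sign.comp φ).ker)
  refine h1 ?_
  rw [Subgroup.index_ker, MonoidHom.range_eq_top.2, Subgroup.card_top, Nat.card_eq_fintype_card,
    Fintype.card_units_int]
  intro u
  rcases Int.units_eq_one_or u with rfl | rfl
  · exact ⟨1, map_one _⟩
  · exact ⟨_, hsign⟩

end CfsgLib.SmallOrders.J175560
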