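import Cfsg.Agent.Lib.SmallOrders.J175560.Local
import Cfsg.Agent.Lib.AbelianSylowInvolutions
import Cfsg.Agent.Lib.Involutions
import Cfsg.Agent.Lib.SmallSimple.Order360
import Cfsg.Agent.S0016
import Cfsg.Agent.S0107
import Cfsg.Agent.S0201
import Cfsg.Agent.S4481
import Cfsg.Agent.S4482

/-!
# Simple groups of order `175560` have elementary abelian Sylow `2`-subgroups
-/

namespace CfsgLib.SmallOrders.J175560

open Cfsg CfsgLib CfsgLib.SmallOrders CfsgLib.SmallOrders.Order58520 CfsgLib.Blocks.Dihedral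
open scoped Pointwise

set_option autoImplicit false
set_option linter.unusedVariables false
set_option linter.style.haveILetI false
set_option linter.unusedSectionVars false

universe u

/-- The candidates with a square discriminant. -/
def rootTable : List ((ℕ × ℕ × ℕ) × ℕ) :=
  [((5, 1, 1), 335), ((21, 1, 1), 1113), ((33, 1, 3), 5049), ((33, 3, 1), 5049),
    ((77, 77, 77), 7761061), ((105, 35, 105), 5788125), ((105, 105, 35), 5788125),
    ((165, 3, 15), 497475), ((165, 5, 5), 276375), ((165, 15, 3), 497475),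
    ((165, 33, 165), 11679525), ((165, 55, 55), 6488625), ((165, 165, 33), 11679525),
    ((385, 55, 385), 89676125), ((385, 385, 55), 89676125)]

/-- The square occurring in the discriminant. -/
def discr (o a b : ℕ) : ℕ := o * (21945 * (a * b) ^ 2 + o ^ 3 * (a + b) ^ 2)

/-- The leading coefficient. -/
def lead (o a b : ℕ) : ℤ :=
  21945 * ((a : ℤ) * b) ^ 2 - 8 * (o : ℤ) ^ 3 * ((a : ℤ) + b) ^ 2

/-- The middle coefficient. -/
def middle (o a b : ℕ) (δ : ℤ) : ℤ :=
  -(2 * (21945 * ((a : ℤ) * b) ^ 2) + 8 * (o : ℤ) ^ 3 * ((a : ℤ) + b) ^ 2) * δ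

/-- No admissible degree. -/
def noRoot (o a b : ℕ) (r : ℕ) : Bool :=
  decide (lead o a b ≠ 0) && [(1 : ℤ), -1].all fun δ => [(1 : ℤ), -1].all fun s =>
    !(decide ((-middle o a b δ + s * (8 * (o : ℤ) * ((a : ℤ) + b) * r)) % (2 * lead o a b) = 0) &&
      decide (2 ≤ (-middle o a b δ + s * (8 * (o : ℤ) * ((a : ℤ) + b) * r)) / (2 * lead o a b)))

/-- The check of one candidate. -/
def tripleOk (o a b : ℕ) : Bool :=
  ([8, 41, 59, 17].any fun q => (List.range q).all fun r => decide (r * r % q ≠ discr o a b % q)) ||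
    rootTable.any fun t => decide (t.1 = (o, a, b)) && decide (t.2 * t.2 = discr o a b) && noRoot o a b t.2

/-- The odd divisors of `1155`. -/
def oddDivs : List ℕ := [1, 3, 5, 7, 11, 15, 21, 33, 35, 55, 77, 105, 165, 231, 385, 1155]

theorem mem_oddDivs : ∀ d < 1156, d ∣ 1155 → d ∈ oddDivs := by decide +kernel

theorem triples_ok : (oddDivs.all fun o => oddDivs.all fun a => oddDivs.all fun b =>
    decide (o % a ≠ 0) || decide (o % b ≠ 0) || tripleOk o a b) = true := by decide +kernel

theorem no_solution {o a b : ℕ} (ho : o ∣ 1155) (ha : a ∣ o) (hb : b ∣ o) {x δ : ℤ}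
    (hx : 2 ≤ x) (hδ : δ = 1 ∨ δ = -1)
    (heq : 21945 * (x - δ) ^ 2 * ((a : ℤ) * b) ^ 2 =
      8 * x * (x + δ) * (o : ℤ) ^ 3 * ((a : ℤ) + b) ^ 2) : False := by
  have hm : ∀ {d : ℕ}, d ∣ 1155 → d ∈ oddDivs := fun hd =>
    mem_oddDivs _ (Nat.lt_succ_of_le (Nat.le_of_dvd (by norm_num) hd)) hd
  have hok : tripleOk o a b = true := by
    have := triples_ok
    simp only [List.all_eq_true, Bool.or_eq_true, decide_eq_true_eq] at this
    rcases this o (hm ho) a (hm (ha.trans ho)) b (hm (hb.trans ho)) with (h | h) | h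
    · exact absurd (Nat.mod_eq_zero_of_dvd ha) h
    · exact absurd (Nat.mod_eq_zero_of_dvd hb) h
    · exact h
  set w : ℤ := 2 * lead o a b * x + middle o a b δ with hw
  set k : ℕ := 8 * o * (a + b) with hk
  have hwk : w ^ 2 = (k : ℤ) ^ 2 * (discr o a b : ℤ) := by
    have hk' : (k : ℤ) = 8 * (o : ℤ) * ((a : ℤ) + b) := by rw [hk]; push_cast; ring
    rw [hw, hk', discr, lead, middle]
    push_cast
    rcases hδ with rfl | rfl <;>
      linear_combination (4 * (21945 * ((a : ℤ) * b) ^ 2 - 8 * (o : ℤ) ^ 3 * ((a : ℤ) + b) ^ 2)) * heq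
  obtain ⟨r, hr⟩ : ∃ r : ℕ, r * r = discr o a b := by
    have h : w.natAbs ^ 2 = k ^ 2 * discr o a b := by
      have := congrArg Int.natAbs hwk
      rwa [Int.natAbs_pow, Int.natAbs_mul, Int.natAbs_pow, Int.natAbs_natCast, Int.natAbs_natCast] at this
    have hk0 : 0 < k := by
      have := Nat.pos_of_dvd_of_pos ho (by norm_num)
      have := Nat.pos_of_dvd_of_pos ha this
      positivity
    obtain ⟨r, hr⟩ := (Nat.pow_dvd_pow_iff two_ne_zero).1 (h ▸ dvd_mul_right (k ^ 2) _)
    rw [hr, mul_pow] at h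
    exact ⟨r, by rw [← sq]; exact Nat.eq_of_mul_eq_mul_left (pow_pos hk0 2) h⟩
  simp only [tripleOk, Bool.or_eq_true, List.any_eq_true, List.all_eq_true, List.mem_range,
    decide_eq_true_eq, Bool.and_eq_true] at hok
  rcases hok with ⟨q, hq, hall⟩ | ⟨t, -, ⟨ht, hsq⟩, hno⟩
  · have hq0 : 0 < q := by simp at hq; omega
    exact hall (r % q) (Nat.mod_lt _ hq0) (by rw [← Nat.mul_mod, hr])
  · have htr : t.2 = r := by nlinarith
    rw [htr] at hno
    simp only [noRoot, Bool.and_eq_true, decide_eq_true_eq, List.all_eq_true, Bool.not_eq_true',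
      Bool.and_eq_false_iff, decide_eq_false_iff_not] at hno
    obtain ⟨hp, hall⟩ := hno
    have hcase : w = (k : ℤ) * r ∨ w = -((k : ℤ) * r) := by
      refine sq_eq_sq_iff_eq_or_eq_neg.1 ?_
      rw [hwk, ← hr]; push_cast; ring
    obtain ⟨s, hs, hws⟩ : ∃ s ∈ [(1 : ℤ), -1], w = s * (8 * (o : ℤ) * ((a : ℤ) + b) * r) := by
      rcases hcase with h | h
      · exact ⟨1, by simp, by rw [h, hk]; push_cast; ring⟩
      · exact ⟨-1, by simp, by rw [h, hk]; push_cast; ring⟩
    have hval : -middle o a b δ + s * (8 * (o : ℤ) * ((a : ℤ) + b) * r) = 2 * lead o a b * x := by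
      rw [← hws, hw]; ring
    rcases hall δ (by simpa using hδ) s hs with h | h
    · exact h (by rw [hval]; exact Int.mul_emod_right _ _)
    · apply h
      rw [hval, Int.mul_ediv_cancel_left _ (mul_ne_zero two_ne_zero hp)]
      exact hx

variable {G : Type u} [Group G] [Finite G] [IsSimpleGroup G]

theorem not_commutative (hN : Nat.card G = 175560) : ¬ IsMulCommutative G := by
  haveI := Fintype.ofFinite G
  obtain ⟨a, b, hab⟩ := not_comm hN (by norm_num)
  exact fun h => hab (h.is_comm.comm a b)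

theorem card_sylow_two (hN : Nat.card G = 175560) (S : Sylow 2 G) :
    Nat.card (S : Subgroup G) = 8 := by
  haveI : Fact (Nat.Prime 2) := ⟨Nat.prime_two⟩
  rw [show Nat.card (S : Subgroup G) = Nat.card S from rfl,
    SmallOrder.card_sylow_eq (k := 3) S (by rw [hN]; norm_num) (by rw [hN]; norm_num)]
  norm_num

/-- No element of order `19` commutes with an involution. -/
theorem not_commute_nineteen (hN : Nat.card G = 175560) {y t : G} (hy : orderOf y = 19)
    (ht : orderOf t = 2) : ¬ Commute y t := by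
  intro h
  haveI : Fact (Nat.Prime 19) := ⟨by norm_num⟩
  obtain ⟨P⟩ : Nonempty (Sylow 19 G) := inferInstance
  have := dvd_card_of_commute P (sylow_of_prime hN (m := 9240) (by norm_num) (by norm_num) P) hy h.eq
  rw [ht] at this
  rcases cent19 hN P with e | e <;> rw [e] at this <;> norm_num at this

theorem not_dihedral (hN : Nat.card G = 175560) (S : Sylow 2 G) {σ τ : G}
    (hσ : σ ∈ (S : Subgroup G)) (hτ : τ ∈ (S : Subgroup G)) (hσo : orderOf σ = 4)
    (hτo : orderOf τ = 2) (hrel : τ * σ * τ⁻¹ = σ⁻¹)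
    (hgen : Subgroup.closure ({σ, τ} : Set G) = (S : Subgroup G)) : False := by
  classical
  haveI := Fintype.ofFinite G
  haveI : Fact (Nat.Prime 2) := ⟨Nat.prime_two⟩
  have hh : DihPair S σ τ 2 := DihPair.of_gen ⟨0, rfl⟩ hσ hτ (by rw [hσo]) hτo hrel hgen
  obtain ⟨e⟩ := hh.toDih.iso
  set z := σ ^ 2 with hz
  have hz2 : orderOf z = 2 := by
    rw [hz, orderOf_pow, hσo]; norm_num
  have hna : ¬ IsMulCommutative G := not_commutative hN
  -- one class of involutions
  have hres : Cfsg.pResidual 2 G = ⊤ := by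
    obtain ⟨g, hg⟩ := exists_prime_orderOf_dvd_card' (G := G) (p := 3) (hp := ⟨Nat.prime_three⟩)
      (by rw [hN]; norm_num)
    have hn : (Cfsg.pResidual 2 G).Normal := by
      refine ⟨fun x hx c => ?_⟩
      have : (Cfsg.pResidual 2 G).map (MulAut.conj c).toMonoidHom ≤ Cfsg.pResidual 2 G := by
        rw [Cfsg.pResidual, MonoidHom.map_closure]
        refine (Subgroup.closure_le _).mpr ?_
        rintro _ ⟨y, hy, rfl⟩
        refine Subgroup.subset_closure ?_
        change Nat.Coprime (orderOf (MulAut.conj c y)) 2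
        rw [MulEquiv.orderOf_eq]
        exact hy
      exact this ⟨x, hx, rfl⟩
    refine hn.eq_bot_or_eq_top.resolve_left fun h => ?_
    have : g ∈ (⊥ : Subgroup G) := h ▸ Subgroup.subset_closure (by
      show Nat.Coprime (orderOf g) 2
      rw [hg]; norm_num)
    rw [Subgroup.mem_bot.1 this, orderOf_one] at hg
    omega
  have hclass : ∀ u : G, orderOf u = 2 → IsConj z u := fun u hu =>
    isConj_iff.2 (Cfsg.Agent.S0107.result S 2 le_rfl ⟨e⟩ hres z u hz2 hu)
  have hτn : ∀ {u : G}, u ∈ (S : Subgroup G) → u ∉ Subgroup.zpowers σ → orderOf u = 2 := fun hu hn =>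
    orderOf_eq_prime (by rw [sq]; exact (hh.toDih.out hu hn).1) fun e' => hn (e' ▸ one_mem _)
  have hστ : σ * τ ∉ Subgroup.zpowers σ := by
    have := hh.refl_not 1
    rwa [pow_one] at this
  -- the centralisers
  obtain ⟨K, hK⟩ := hh.toDih.exists_core
  set o := Nat.card K with ho
  have hC : Nat.card (Subgroup.centralizer ({z} : Set G)) = 8 * o := by
    rw [hz, hK.card, ← ho]
    have := card_sylow_two hN S
    rw [show Nat.card S = 8 from this]
  have hodd : Nat.Coprime 8 o := by
    rw [show 8 = 2 ^ 3 from rfl]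
    exact (Nat.prime_two.coprime_iff_not_dvd.2 hK.odd).pow_left 3
  have ho1155 : o ∣ 1155 := by
    have hd : 8 * o ∣ 8 * (19 * 1155) := by
      rw [← hC, show 8 * (19 * 1155) = 175560 by norm_num, ← hN]
      exact Subgroup.card_subgroup_dvd_card _
    have h := Nat.dvd_of_mul_dvd_mul_left (by norm_num) hd
    refine (Nat.Coprime.dvd_of_dvd_mul_left ((Nat.Prime.coprime_iff_not_dvd (by norm_num)).2 fun h19 => ?_).symm h)
    obtain ⟨y, hy⟩ := exists_prime_orderOf_dvd_card' (G := K) (p := 19) (hp := ⟨by norm_num⟩) h19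
    exact not_commute_nineteen hN (y := (y : G)) (by rw [Subgroup.orderOf_coe, hy]) hz2 (hK.comm y y.2)
  -- the joint centralisers
  have hpair : ∀ u ∈ (S : Subgroup G), u ∉ Subgroup.zpowers σ →
      ∃ a, a ∣ o ∧ Nat.card (Subgroup.centralizer ({z, u} : Set G)) = 4 * a := by
    intro u hu hun
    set C := Subgroup.centralizer ({z, u} : Set G) with hCdef
    have hmem : ∀ {g : G}, g ∈ C ↔ Commute g z ∧ Commute g u := fun {g} => by
      rw [hCdef, Subgroup.mem_centralizer_iff]
      simp [Commute, SemiconjBy, eq_comm]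
    have hle : C ≤ Subgroup.centralizer ({z} : Set G) :=
      Subgroup.centralizer_le (by simp)
    have hd : Nat.card C ∣ 8 * o := hC ▸ Subgroup.card_dvd_of_le hle
    have hzu : Commute z u := (hh.toDih.z_central hu).symm
    -- four divides
    have h4 : 4 ∣ Nat.card C := by
      have h3 : 2 < Nat.card (C ⊓ (S : Subgroup G) : Subgroup G) := by
        have hs : ({1, z, u} : Finset G).card = 3 := by
          have h1 : z ≠ 1 := fun e' => by rw [e', orderOf_one] at hz2; omega
          have h2 : u ≠ 1 := fun e' => hun (e' ▸ one_mem _)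
          have h3 : z ≠ u := fun e' => hun (e' ▸ Subgroup.npow_mem_zpowers σ 2)
          simp [h1.symm, h2.symm, h3]
        haveI := Fintype.ofFinite (C ⊓ (S : Subgroup G) : Subgroup G)
        rw [Nat.card_eq_fintype_card, ← Finset.card_univ]
        refine lt_of_lt_of_le (show 2 < ({1, z, u} : Finset G).card by omega) ?_
        rw [← Finset.card_map (Function.Embedding.subtype _)]
        refine Finset.card_le_card fun g hg => Finset.mem_map.2 ⟨⟨g, ?_⟩, Finset.mem_univ _, rfl⟩
        simp only [Finset.mem_insert, Finset.mem_singleton] at hg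
        rcases hg with rfl | rfl | rfl
        · exact one_mem _
        · exact ⟨hmem.2 ⟨Commute.refl _, hzu⟩, pow_mem hσ 2⟩
        · exact ⟨hmem.2 ⟨hzu.symm, Commute.refl _⟩, hu⟩
      have h8 : Nat.card (C ⊓ (S : Subgroup G) : Subgroup G) ∣ 2 ^ 3 :=
        (Subgroup.card_dvd_of_le inf_le_right).trans (by rw [card_sylow_two hN S]; norm_num)
      obtain ⟨j, hj, hje⟩ := (Nat.dvd_prime_pow Nat.prime_two).1 h8
      rw [hje] at h3
      refine (?_ : 4 ∣ Nat.card (C ⊓ (S : Subgroup G) : Subgroup G)).trans (Subgroup.card_dvd_of_le inf_le_left)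
      rw [hje]
      exact pow_dvd_pow 2 (show 2 ≤ j by
        by_contra h; interval_cases j <;> norm_num at h3)
    -- eight does not
    have h8 : ¬ 8 ∣ Nat.card C := by
      intro h8
      obtain ⟨R⟩ : Nonempty (Sylow 2 C) := inferInstance
      obtain ⟨T, hT⟩ := (R.2.map C.subtype).exists_le_sylow
      have hTC : (T : Subgroup G) ≤ C := by
        rw [← Subgroup.eq_of_le_of_card_ge hT ?_]
        · exact Subgroup.map_subtype_le _
        · rw [card_sylow_two hN T, Subgroup.card_subtype]
          exact Nat.le_of_dvd Nat.card_pos (R.pow_dvd_card_of_pow_dvd_card (n := 3) h8)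
      obtain ⟨g, rfl⟩ := MulAction.exists_smul_eq G S T
      have key : ∀ w : G, orderOf w = 2 → (∀ c ∈ ((g • S : Sylow 2 G) : Subgroup G), Commute c w) →
          w = g * z * g⁻¹ := by
        intro w hw hcw
        have hwT : w ∈ ((g • S : Sylow 2 G) : Subgroup G) := by
          have hp : IsPGroup 2 (Subgroup.zpowers w) :=
            IsPGroup.of_card (n := 1) (by rw [Nat.card_zpowers, hw, pow_one])
          have hnor : ((g • S : Sylow 2 G) : Subgroup G) ≤ Subgroup.normalizer (Subgroup.zpowers w : Set G) :=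
            fun c hc => Subgroup.centralizer_le_normalizer _ (Subgroup.mem_centralizer_iff.2 (by
              rintro _ ⟨i, rfl⟩
              exact ((hcw c hc).zpow_right i).eq.symm))
          have hsup := (g • S).2.to_sup_of_normal_right' hp hnor
          exact ((g • S).3 hsup le_sup_left).le (Subgroup.mem_sup_right (Subgroup.mem_zpowers w))
        obtain ⟨v, hv, rfl⟩ := hwT
        have hv' : v ∈ (S : Subgroup G) := hv
        show g * v * g⁻¹ = g * z * g⁻¹
        congr 2
        have hvo : orderOf v = 2 := by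
          have : orderOf (MulAut.conj g v) = 2 := hw
          rwa [MulEquiv.orderOf_eq] at this
        have hvσ : Commute v σ := by
          have h := hcw (g * σ * g⁻¹) ⟨σ, hσ, rfl⟩
          have h' : Commute (g * σ * g⁻¹) (g * v * g⁻¹) := h
          exact ((Commute.conj_iff g).1 h').symm
        have hvr : v ∈ Subgroup.zpowers σ := hh.toDih.comm_mem (Subgroup.mem_zpowers σ)
          (fun e' => by
            have := Nat.le_of_dvd (by norm_num) (orderOf_dvd_of_pow_eq_one (x := σ) (n := 2) (by rw [sq, e']))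
            omega) hv' hvσ
        exact (hh.toDih.sq_eq_one hvr (by rw [← sq, ← hvo, pow_orderOf_eq_one])).resolve_left
          (fun e' => by rw [e', orderOf_one] at hvo; omega)
      have e1 := key z hz2 fun c hc => (hmem.1 (hTC hc)).1
      have e2 := key u (hτn hu hun) fun c hc => (hmem.1 (hTC hc)).2
      exact hun (e2.trans e1.symm ▸ Subgroup.npow_mem_zpowers σ 2)
    obtain ⟨a, ha⟩ := h4
    refine ⟨a, ?_, ha⟩
    have hodd' : ¬ 2 ∣ a := fun ⟨b, hb⟩ => h8 ⟨b, by rw [ha, hb]; ring⟩
    refine Nat.Coprime.dvd_of_dvd_mul_left ?_ ((ha ▸ dvd_mul_left a 4 : a ∣ Nat.card C).trans hd)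
    rw [show 8 = 2 ^ 3 from rfl]
    exact ((Nat.prime_two.coprime_iff_not_dvd.2 hodd').pow_left 3).symm
  obtain ⟨a, ha, hca⟩ := hpair τ hτ hh.tnot
  obtain ⟨b, hb, hcb⟩ := hpair (σ * τ) (mul_mem hσ hτ) hστ
  -- the character
  obtain ⟨M, hM⟩ := CfsgLib.Blocks.exists_pModular Nat.prime_two
  obtain ⟨-, χ₁, χ₂, χ₃, χ', δ₁, δ₂, δ₃, hδ₁, -, -, -, h1, -, -, -, -, -, -, hB, hval, -⟩ :=
    Cfsg.Agent.S4481.result M hM 3 le_rfl S ⟨e⟩ σ hσ hσo (Complex.exp (2 * Real.pi * Complex.I / 4))
      (by simpa using Complex.isPrimitiveRoot_exp 4 (by norm_num))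
  obtain ⟨hne, hform⟩ := Cfsg.Agent.S4482.result M hM 3 le_rfl S σ τ hσ hτ hσo hτo hrel hgen
    ⟨hclass τ hτo, hclass _ (hτn (mul_mem hσ hτ) hστ)⟩ χ₁
    (by rw [hB]; exact Or.inr (Or.inl rfl)) h1 δ₁ hδ₁ (fun l h0 hl => (hval l h0 hl).1)
  rw [show (2 : ℕ) ^ (3 - 2) = 2 from rfl, ← hz, hC, hca, hcb, hN] at hform
  set x := charDegree (χ₁ : G → ℂ) with hxdef
  have hx2 : 2 ≤ x := two_le_charDegree (not_comm hN (by norm_num)) fun e' => h1 (by rw [e']; rfl)
  have ha0 : (a : ℚ) ≠ 0 := Nat.cast_ne_zero.2 (Nat.pos_of_dvd_of_pos (ha.trans ho1155) (by norm_num)).ne'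
  have hb0 : (b : ℚ) ≠ 0 := Nat.cast_ne_zero.2 (Nat.pos_of_dvd_of_pos (hb.trans ho1155) (by norm_num)).ne'
  refine no_solution ho1155 ha hb (x := (x : ℤ)) (δ := δ₁) (by exact_mod_cast hx2) hδ₁ ?_
  push_cast at hform
  field_simp at hform
  have hQ : (21945 : ℚ) * ((x : ℚ) - δ₁) ^ 2 * ((a : ℚ) * b) ^ 2 =
      8 * (x : ℚ) * ((x : ℚ) + δ₁) * (o : ℚ) ^ 3 * ((a : ℚ) + b) ^ 2 := by
    linear_combination hform / 128
  exact_mod_cast hQ

theorem not_quaternion (hN : Nat.card G = 175560) (S : Sylow 2 G)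
    (e : (S : Subgroup G) ≃* QuaternionGroup (2 ^ (0 + 1))) : False := by
  have hc := Cfsg.Agent.S0201.result S 0 e fun N hN' hodd => hN'.eq_bot_or_eq_top.resolve_right fun h => by
    rw [h, Subgroup.card_top, hN] at hodd
    exact absurd hodd (by decide)
  rcases (inferInstance : (Subgroup.center G).Normal).eq_bot_or_eq_top with h | h
  · rw [h, Subgroup.card_bot] at hc; omega
  · rw [h, Subgroup.card_top, hN] at hc; omega

/-- The Sylow `2`-subgroups have exponent two. -/
theorem elementary (hN : Nat.card G = 175560) (S : Sylow 2 G) :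
    ∀ x ∈ (S : Subgroup G), x * x = 1 := by
  classical
  haveI : Fact (Nat.Prime 2) := ⟨Nat.prime_two⟩
  have hS := card_sylow_two hN S
  have h8 : ∀ x ∈ (S : Subgroup G), x ^ 8 = 1 := fun x hx =>
    orderOf_dvd_iff_pow_eq_one.1 (hS ▸ Subgroup.orderOf_dvd_natCard _ hx)
  by_contra hcon
  push Not at hcon
  obtain ⟨x₀, hx₀, hx₀2⟩ := hcon
  by_cases hab : ∀ a b : (S : Subgroup G), a * b = b * a
  · -- abelian: a nontrivial element fixed by the normaliser
    haveI : IsMulCommutative (S : Subgroup G) := ⟨⟨hab⟩⟩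
    obtain ⟨z, hz, hz1, hfix⟩ : ∃ z ∈ (S : Subgroup G), z ≠ 1 ∧
        ∀ n ∈ Subgroup.normalizer ((S : Subgroup G) : Set G), n * z = z * n := by
      suffices h : ∃ k : ℕ, ∃ z ∈ (S : Subgroup G), z ≠ 1 ∧ (∃ w ∈ (S : Subgroup G), w ^ k = z) ∧
          ∀ w ∈ (S : Subgroup G), w ^ k = 1 ∨ w ^ k = z by
        obtain ⟨k, z, hz, hz1, ⟨w, hw, rfl⟩, huniq⟩ := h
        refine ⟨_, hz, hz1, fun n hn => ?_⟩
        have h' : n * w ^ k * n⁻¹ = w ^ k := by
          rcases huniq _ ((Subgroup.mem_normalizer_iff.1 hn w).1 hw) with e | e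
          · exfalso; apply hz1
            rwa [conj_pow, conj_eq_one_iff] at e
          · rwa [conj_pow] at e
        calc n * w ^ k = n * w ^ k * n⁻¹ * n := by group
          _ = w ^ k * n := by rw [h']
      by_cases h4 : ∃ x ∈ (S : Subgroup G), x ^ 4 ≠ 1
      · obtain ⟨x, hx, hx4⟩ := h4
        have ho : orderOf x = 8 := orderOf_eq_prime_pow (p := 2) (n := 2) hx4 (h8 x hx)
        have htop : Subgroup.zpowers x = (S : Subgroup G) :=
          Subgroup.eq_of_le_of_card_ge (Subgroup.zpowers_le.2 hx) (by rw [Nat.card_zpowers, ho, hS])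
        refine ⟨4, x ^ 4, pow_mem hx 4, hx4, ⟨x, hx, rfl⟩, fun w hw => ?_⟩
        obtain ⟨j, rfl⟩ := (IsOfFinOrder.mem_powers_iff_mem_zpowers (isOfFinOrder_of_finite x)).2 (htop ▸ hw)
        show (x ^ j) ^ 4 = 1 ∨ (x ^ j) ^ 4 = x ^ 4
        rcases Nat.even_or_odd' j with ⟨i, rfl | rfl⟩
        · left; rw [← pow_mul, show 2 * i * 4 = 8 * i by ring, pow_mul, h8 x hx, one_pow]
        · right; rw [← pow_mul, show (2 * i + 1) * 4 = 8 * i + 4 by ring, pow_add, pow_mul, h8 x hx,
            one_pow, one_mul]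
      · push Not at h4
        let f : (S : Subgroup G) →* (S : Subgroup G) :=
          { toFun := fun a => a * a
            map_one' := one_mul 1
            map_mul' := fun a b => by rw [mul_assoc, ← mul_assoc b, hab b a, mul_assoc, ← mul_assoc] }
        have hle : f.range ≤ f.ker := by
          rintro _ ⟨a, rfl⟩
          rw [MonoidHom.mem_ker]
          refine Subtype.ext ?_
          show ((a : G) * a) * ((a : G) * a) = 1
          rw [← sq, ← sq, ← pow_mul]; exact h4 a a.2
        have hprod : Nat.card f.range * Nat.card f.ker = 8 := by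
          rw [← Subgroup.index_ker, mul_comm, Subgroup.card_mul_index, hS]
        have hle' := Subgroup.card_le_of_le hle
        have hne : f.range ≠ ⊥ := fun e => hx₀2 (by
          have : f ⟨x₀, hx₀⟩ = 1 := Subgroup.mem_bot.1 (e ▸ MonoidHom.mem_range.2 ⟨_, rfl⟩)
          exact congrArg Subtype.val this)
        have h2 : Nat.card f.range = 2 := by
          have h1 := f.range.one_lt_card_iff_ne_bot.2 hne
          have h3 : Nat.card f.range * Nat.card f.range ≤ 8 := hprod ▸ Nat.mul_le_mul_left _ hle'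
          have hd : Nat.card f.range ∣ 8 := ⟨_, hprod.symm⟩
          have : Nat.card f.range ≤ 2 := by nlinarith
          omega
        obtain ⟨⟨z, hzr⟩, hz1, -⟩ := (Nat.card_eq_two_iff' (1 : f.range)).1 h2
        obtain ⟨w, hw⟩ := hzr
        refine ⟨2, z, z.2, fun e => hz1 (Subtype.ext (Subtype.ext e)), ⟨w, w.2, ?_⟩, fun v hv => ?_⟩
        · rw [sq]; exact congrArg Subtype.val hw
        · have hmem : f ⟨v, hv⟩ ∈ f.range := ⟨_, rfl⟩
          by_cases hv1 : f ⟨v, hv⟩ = 1
          · left; rw [sq]; exact congrArg Subtype.val hv1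
          · right
            obtain ⟨c, hc, hcu⟩ := (Nat.card_eq_two_iff' (1 : f.range)).1 h2
            have e1 := hcu ⟨_, hmem⟩ (fun e => hv1 (congrArg Subtype.val e))
            have e2 := hcu ⟨z, ⟨w, hw⟩⟩ hz1
            rw [sq]
            exact congrArg (fun a : f.range => ((a : (S : Subgroup G)) : G)) (e1.trans e2.symm)
    obtain ⟨H, hH⟩ := AbelianInvolutions.exists_index_two_of_fixed S hz hz1 hfix
    exact index_ne_two (by rw [hN]; norm_num) H hH
  · push Not at hab
    obtain ⟨a₀, b₀, hab₀⟩ := hab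
    by_cases huniq : ∀ u v : (S : Subgroup G), orderOf u = 2 → orderOf v = 2 → u = v
    · -- quaternion
      rcases Cfsg.Agent.S0016.result 2 S.2 (fun H K hH hK => by
        haveI hp2 : Fact (Nat.Prime 2) := ⟨Nat.prime_two⟩
        obtain ⟨h, hh⟩ := exists_prime_orderOf_dvd_card' (G := H) 2 (by rw [hH])
        obtain ⟨k, hk⟩ := exists_prime_orderOf_dvd_card' (G := K) 2 (by rw [hK])
        rw [← Subgroup.orderOf_coe] at hh hk
        have e := huniq _ _ hh hk
        rw [← Subgroup.eq_of_le_of_card_ge (Subgroup.zpowers_le.2 h.2) (by rw [Nat.card_zpowers, hh, hH]),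
          ← Subgroup.eq_of_le_of_card_ge (Subgroup.zpowers_le.2 k.2) (by rw [Nat.card_zpowers, hk, hK]), e])
        with hc | ⟨-, n, ⟨e⟩⟩
      · exact hab₀ (hc.isMulCommutative.is_comm.comm a₀ b₀)
      · have hcard := Nat.card_congr e.toEquiv
        rw [hS, Nat.card_eq_fintype_card (α := QuaternionGroup (2 ^ n)), QuaternionGroup.card] at hcard
        have hn : n = 1 := by
          have h2n : 2 ^ n = 2 ^ 1 := by omega
          exact Nat.pow_right_injective le_rfl h2n
        subst hn
        exact not_quaternion hN S e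
    · -- dihedral
      push Not at huniq
      obtain ⟨u, v, hu, hv, huv⟩ := huniq
      haveI : Nontrivial (S : Subgroup G) := Finite.one_lt_card_iff_nontrivial.1 (by rw [hS]; norm_num)
      haveI := S.isPGroup'.center_nontrivial
      obtain ⟨c, hc⟩ := exists_prime_orderOf_dvd_card' (G := Subgroup.center (S : Subgroup G)) 2 (by
        obtain ⟨k, hk⟩ := IsPGroup.iff_card.1 (S.isPGroup'.to_subgroup (Subgroup.center (S : Subgroup G)))
        rw [hk]
        refine dvd_pow_self 2 fun h0 => ?_
        have h1 := Finite.one_lt_card (α := Subgroup.center (S : Subgroup G))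
        rw [hk, h0] at h1; omega)
      set z : (S : Subgroup G) := (c : (S : Subgroup G)) with hzdef
      rw [← Subgroup.orderOf_coe] at hc
      have hz2 : z * z = 1 := by
        have := pow_orderOf_eq_one z
        rwa [show orderOf z = 2 from hc, sq] at this
      have hz1 : z ≠ 1 := fun e => by rw [← hzdef, e, orderOf_one] at hc; omega
      have hzc : ∀ a, a * z = z * a := Subgroup.mem_center_iff.1 c.2
      have hsq := CfsgLib.Order360.sq_center hS ⟨a₀, b₀, hab₀⟩ hz2 hz1 hzc
      obtain ⟨σ, hσ⟩ : ∃ σ : (S : Subgroup G), σ * σ = z := by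
        by_contra hno
        push Not at hno
        have h1 : ∀ x : (S : Subgroup G), x⁻¹ = x := fun x =>
          inv_eq_of_mul_eq_one_right ((hsq x).resolve_right (hno x))
        exact hab₀ (by rw [← h1 (a₀ * b₀), mul_inv_rev, h1 a₀, h1 b₀])
      obtain ⟨τ, hτ, hτz⟩ : ∃ τ : (S : Subgroup G), orderOf τ = 2 ∧ τ ≠ z := by
        by_cases hu' : u = z
        · exact ⟨v, hv, fun e => huv (hu'.trans e.symm)⟩
        · exact ⟨u, hu, hu'⟩
      have hσ4 : orderOf σ = 4 := orderOf_eq_prime_pow (p := 2) (n := 1)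
        (by rw [pow_one, sq, hσ]; exact hz1) (by rw [show 2 ^ (1 + 1) = 2 * 2 from rfl, pow_mul, sq, sq, hσ, hz2])
      have hτ2 : τ * τ = 1 := by
        have := pow_orderOf_eq_one τ
        rwa [hτ, sq] at this
      have hτn : τ ∉ Subgroup.zpowers σ := by
        intro hm
        obtain ⟨j, hj, e⟩ : ∃ j < 4, σ ^ j = τ := by
          obtain ⟨j, hj⟩ := (IsOfFinOrder.mem_powers_iff_mem_zpowers (isOfFinOrder_of_finite σ)).2 hm
          exact ⟨j % 4, Nat.mod_lt _ (by norm_num), by rw [← hσ4, pow_mod_orderOf]; exact hj⟩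
        have h4 : 4 ∣ j + j := hσ4 ▸ orderOf_dvd_of_pow_eq_one (by rw [pow_add, e, hτ2])
        interval_cases j
        · rw [pow_zero] at e; rw [← e, orderOf_one] at hτ; omega
        · omega
        · exact hτz (by rw [← e, sq, hσ])
        · omega
      have htop : Subgroup.closure ({σ, τ} : Set (S : Subgroup G)) = ⊤ := by
        refine Subgroup.eq_top_of_card_eq _ (le_antisymm (Subgroup.card_le_card_group _) ?_)
        have hle : Subgroup.zpowers σ ≤ Subgroup.closure ({σ, τ} : Set (S : Subgroup G)) :=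
          Subgroup.zpowers_le.2 (Subgroup.subset_closure (by simp))
        have h1 := Subgroup.card_dvd_of_le hle
        rw [Nat.card_zpowers, hσ4] at h1
        have h2 : Nat.card (Subgroup.closure ({σ, τ} : Set (S : Subgroup G))) ≠ 4 := fun h => hτn (by
          rw [Subgroup.eq_of_le_of_card_ge hle (by rw [h, Nat.card_zpowers, hσ4])]
          exact Subgroup.subset_closure (by simp))
        have h3 := Subgroup.card_subgroup_dvd_card (Subgroup.closure ({σ, τ} : Set (S : Subgroup G)))
        rw [hS] at h3 ⊢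
        have := Nat.card_pos (α := Subgroup.closure ({σ, τ} : Set (S : Subgroup G)))
        have := Nat.le_of_dvd (by norm_num) h3
        obtain ⟨r, hr⟩ := h1
        omega
      have hrel : τ * σ * τ⁻¹ = σ⁻¹ := by
        rw [inv_eq_of_mul_eq_one_right hτ2]
        rcases hsq (τ * σ) with e | e
        · exact eq_inv_of_mul_eq_one_left (by rw [← e]; group)
        · exfalso
          apply hab₀
          have hcomm : Commute τ σ := by
            have e1 : τ * σ * τ * σ = σ * σ := by rw [hσ, ← e]; group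
            have e2 : τ * σ * τ = σ := mul_right_cancel e1
            show τ * σ = σ * τ
            calc τ * σ = τ * σ * (τ * τ) := by rw [hτ2, mul_one]
              _ = σ * τ := by rw [← mul_assoc, e2]
          haveI := Subgroup.isMulCommutative_closure (k := ({σ, τ} : Set (S : Subgroup G))) (by
            intro p hp q hq
            simp only [Set.mem_insert_iff, Set.mem_singleton_iff] at hp hq
            rcases hp with rfl | rfl <;> rcases hq with rfl | rfl
            exacts [rfl, hcomm.eq.symm, hcomm.eq, rfl])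
          exact Subgroup.mul_comm_of_mem_isMulCommutative _ (htop.ge (Subgroup.mem_top a₀))
            (htop.ge (Subgroup.mem_top b₀))
      refine not_dihedral hN S σ.2 τ.2 (by rw [Subgroup.orderOf_coe, hσ4]) (by rw [Subgroup.orderOf_coe, hτ])
        (congrArg Subtype.val hrel) ?_
      have := congrArg (Subgroup.map (S : Subgroup G).subtype) htop
      rwa [MonoidHom.map_closure, ← MonoidHom.range_eq_map, Subgroup.range_subtype, Set.image_pair] at this

end CfsgLib.SmallOrders.J175560
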